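import Groth.Agent.L05.PtChain.Can.Pair
import Groth.Agent.L05.SurfRes.SepNorm
import Mathlib.LinearAlgebra.Determinant
import Mathlib.LinearAlgebra.FreeModule.PID
import Mathlib.LinearAlgebra.Matrix.ToLinearEquiv
import Mathlib.LinearAlgebra.Dual.Basis
import Mathlib.RingTheory.Norm.Basic

/-! A complete normal two dimensional local domain has a canonical ideal. -/

set_option autoImplicit false
set_option linter.style.haveILetI false
set_option backward.isDefEq.respectTransparency false
set_option backward.isDefEq.respectTransparency.types false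
set_option maxHeartbeats 800000

universe u

noncomputable section

namespace Groth.L05.PtChain

open IsLocalRing

theorem regPair_of_dep2 {T : Type u} [CommRing T] [IsLocalRing T] {M : Ideal T} (hd : Dep2 M) {x y : T}
    (hx : x ∈ maximalIdeal T) (hy : y ∈ maximalIdeal T) (hx0 : x ≠ 0)
    (hrad : ∃ n, maximalIdeal T ^ n ≤ Ideal.span {x, y}) : RegPair M x y := by
  refine ⟨hx, hy, hx0, fun z hz w hw he => ?_, hrad⟩
  obtain ⟨n, hn⟩ := hrad
  have key : ∀ k, ∀ z' ∈ M, (∀ r ∈ maximalIdeal T ^ k, ∃ v ∈ M, r * z' = x * v) → ∃ v ∈ M, z' = x * v := by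
    intro k
    induction k with
    | zero =>
      intro z' _ h
      simpa using h 1 (by simp)
    | succ k ih =>
      intro z' hz' h
      refine ih z' hz' fun r hr => hd x hx hx0 (r * z') (Ideal.mul_mem_left _ _ hz') fun s hs => ?_
      rw [← mul_assoc]
      exact h (s * r) (by rw [pow_succ']; exact Ideal.mul_mem_mul hs hr)
  refine key n z hz fun r hr => ?_
  obtain ⟨a, b, rfl⟩ := Ideal.mem_span_pair.1 (hn hr)
  exact ⟨a * z + b * w, add_mem (Ideal.mul_mem_left _ _ hz) (Ideal.mul_mem_left _ _ hw), by linear_combination b * he⟩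

theorem exists_params_two (R : Type u) [CommRing R] [IsRegularLocalRing R] (hdim : ringKrullDim R = 2) :
    ∃ t u, maximalIdeal R = Ideal.span {t, u} ∧ t ≠ 0 ∧ u ≠ 0 ∧ ∀ X Y : R, u * X = t * Y → ∃ Z, X = t * Z := by
  haveI := Groth.L01.isDomain_of_regular R
  have h1 := IsRegularLocalRing.spanFinrank_maximalIdeal (R := R)
  rw [hdim] at h1
  norm_cast at h1
  have hfg : (maximalIdeal R).FG := Ideal.fg_of_isNoetherianRing _
  obtain ⟨t, u, htu, hgen⟩ := Set.ncard_eq_two.1 ((Submodule.FG.generators_ncard hfg).trans h1)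
  have hm : maximalIdeal R = Ideal.span {t, u} := by
    rw [Ideal.span, ← hgen]; exact (Submodule.span_generators _).symm
  have key : ∀ p q : R, maximalIdeal R = Ideal.span {p, q} → p ∉ maximalIdeal R ^ 2 := by
    intro p q hpq hp
    have hle : maximalIdeal R ≤ Ideal.span {q} := Groth.L01.maximalIdeal_le_of_le_sup_sq (by
      conv_lhs => rw [hpq, Ideal.span_insert]
      exact sup_le (le_sup_of_le_right ((Ideal.span_singleton_le_iff_mem _).2 hp)) le_sup_left)
    have h2 := ringKrullDim_le_spanFinrank_maximalIdeal R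
    rw [hdim, le_antisymm hle ((Ideal.span_singleton_le_iff_mem _).2 (hpq ▸ Ideal.subset_span (by simp))),
      Ideal.span] at h2
    have h3 := Submodule.spanFinrank_span_le_ncard_of_finite (R := R) (Set.finite_singleton q)
    rw [Set.ncard_singleton] at h3
    norm_cast at h2
    omega
  have ht := key t u hm
  have hu := key u t (by rw [hm, Set.pair_comm])
  obtain ⟨hreg, -⟩ := Groth.L01.regular_quotient_of_notMem_sq (hm ▸ Ideal.subset_span (by simp) : t ∈ maximalIdeal R) ht
  haveI := hreg
  haveI := Groth.L01.isDomain_of_regular (R ⧸ Ideal.span {t})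
  refine ⟨t, u, hm, Groth.L01.ne_zero_of_notMem_sq ht, Groth.L01.ne_zero_of_notMem_sq hu, fun X Y he => ?_⟩
  have h4 : Ideal.Quotient.mk (Ideal.span {t}) u * Ideal.Quotient.mk (Ideal.span {t}) X = 0 := by
    rw [← map_mul, he, Ideal.Quotient.eq_zero_iff_mem]
    exact Ideal.mul_mem_right _ _ (Ideal.mem_span_singleton_self t)
  rcases mul_eq_zero.1 h4 with h | h
  · exfalso
    obtain ⟨c, hc⟩ := Ideal.mem_span_singleton'.1 (Ideal.Quotient.eq_zero_iff_mem.1 h)
    have hle : maximalIdeal R ≤ Ideal.span {t} := by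
      rw [hm, Ideal.span_le]
      rintro w (rfl | rfl)
      exacts [Ideal.mem_span_singleton_self _, Ideal.mem_span_singleton'.2 ⟨c, hc⟩]
    have h2 := ringKrullDim_le_spanFinrank_maximalIdeal R
    rw [hdim, le_antisymm hle ((Ideal.span_singleton_le_iff_mem _).2 (hm ▸ Ideal.subset_span (by simp))),
      Ideal.span] at h2
    have h3 := Submodule.spanFinrank_span_le_ncard_of_finite (R := R) (Set.finite_singleton t)
    rw [Set.ncard_singleton] at h3
    norm_cast at h2
    omega
  · obtain ⟨Z, hZ⟩ := Ideal.mem_span_singleton'.1 (Ideal.Quotient.eq_zero_iff_mem.1 h)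
    exact ⟨Z, by rw [← hZ, mul_comm]⟩

theorem free_of_pair {R T : Type u} [CommRing R] [IsRegularLocalRing R] [CommRing T] [IsDomain T] [IsLocalRing T]
    [Algebra R T] [Module.Finite R T] {t u : R} (hm : maximalIdeal R = Ideal.span {t, u})
    (hP : RegPair (⊤ : Ideal T) (algebraMap R T t) (algebraMap R T u)) : Module.Free R T := by
  classical
  letI := Ideal.Quotient.field (maximalIdeal R)
  haveI : Module.Finite (R ⧸ maximalIdeal R) (T ⧸ (maximalIdeal R • (⊤ : Submodule R T))) := Module.Finite.of_restrictScalars_finite R (R ⧸ maximalIdeal R) _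
  let bq := Module.finBasis (R ⧸ maximalIdeal R) (T ⧸ (maximalIdeal R • (⊤ : Submodule R T)))
  set n := Module.finrank (R ⧸ maximalIdeal R) (T ⧸ (maximalIdeal R • (⊤ : Submodule R T)))
  choose e he using fun i => Submodule.Quotient.mk_surjective (maximalIdeal R • (⊤ : Submodule R T)) (bq i)
  let π : (Fin n → R) →ₗ[R] T := Fintype.linearCombination R e
  have hπmk : ∀ v, Submodule.Quotient.mk (p := (maximalIdeal R • (⊤ : Submodule R T))) (π v) = ∑ i, Ideal.Quotient.mk (maximalIdeal R) (v i) • bq i := fun v => by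
    rw [Fintype.linearCombination_apply, ← Submodule.mkQ_apply, map_sum]
    refine Finset.sum_congr rfl fun i _ => ?_
    rw [map_smul, Submodule.mkQ_apply, he]
    rfl
  have hπs : Function.Surjective π := by
    rw [← LinearMap.range_eq_top]
    refine eq_top_iff.2 (Submodule.le_of_le_smul_of_le_jacobson_bot Module.Finite.fg_top
      (maximalIdeal_le_jacobson ⊥) fun z _ => ?_)
    choose r hr using fun i => Ideal.Quotient.mk_surjective (I := maximalIdeal R) (bq.repr (Submodule.Quotient.mk z) i)
    have h1 : z - π r ∈ (maximalIdeal R • (⊤ : Submodule R T)) := by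
      rw [← Submodule.Quotient.eq, hπmk]
      simp only [hr]
      exact (bq.sum_repr _).symm
    rw [show z = π r + (z - π r) by abel]
    exact add_mem (Submodule.mem_sup_left ⟨r, rfl⟩) (Submodule.mem_sup_right h1)
  have hπi : Function.Injective π := by
    rw [← LinearMap.ker_eq_bot]
    refine Submodule.eq_bot_of_le_smul_of_le_jacobson_bot (maximalIdeal R) _
      (IsNoetherian.noetherian _) (fun v hv => ?_) (maximalIdeal_le_jacobson _)
    have h1 := hπmk v
    rw [LinearMap.mem_ker.1 hv, Submodule.Quotient.mk_zero] at h1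
    have h2 : ∀ i, v i ∈ maximalIdeal R := fun i => Ideal.Quotient.eq_zero_iff_mem.1
      ((Fintype.linearIndependent_iff.1 bq.linearIndependent) (fun i => Ideal.Quotient.mk (maximalIdeal R) (v i)) h1.symm i)
    choose a b hab using fun i => Ideal.mem_span_pair.1 (hm ▸ h2 i)
    have hv' : v = t • a + u • b := funext fun i => by
      simp only [Pi.add_apply, Pi.smul_apply, smul_eq_mul, ← hab]; ring
    have h3 : algebraMap R T u * π b = algebraMap R T t * -π a := by
      have h4 := LinearMap.mem_ker.1 hv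
      rw [hv', map_add, map_smul, map_smul, Algebra.smul_def, Algebra.smul_def] at h4
      linear_combination h4
    obtain ⟨w, -, hw⟩ := hP.reg _ trivial _ trivial h3
    obtain ⟨c, rfl⟩ := hπs w
    have h5 : π (b - t • c) = 0 := by rw [map_sub, map_smul, hw, Algebra.smul_def, sub_self]
    have h6 : π (a + u • c) = 0 := by
      refine mul_left_cancel₀ hP.ne₁ ?_
      rw [map_add, map_smul, Algebra.smul_def, mul_zero]
      rw [hw] at h3
      linear_combination h3
    rw [show v = t • (a + u • c) + u • (b - t • c) by rw [hv', smul_add, smul_sub, smul_comm u t]; abel]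
    exact add_mem (Submodule.smul_mem_smul (hm ▸ Ideal.subset_span (by simp)) (LinearMap.mem_ker.2 h6))
      (Submodule.smul_mem_smul (hm ▸ Ideal.subset_span (by simp)) (LinearMap.mem_ker.2 h5))
  exact Module.Free.of_equiv (LinearEquiv.ofBijective π ⟨hπi, hπs⟩)

variable (T : Type u) [CommRing T] [IsDomain T] [IsLocalRing T] [IsNoetherianRing T]

theorem exists_can [IsAdicComplete (maximalIdeal T) T] [IsIntegrallyClosed T] (hdim : ringKrullDim T = 2) :
    ∃ M : Ideal T, Can M := by
  classical
  obtain ⟨R, _, _, _, f, hR, -, hf, hfin, -⟩ := Groth.L05.SurfRes.exists_separable_base T hdim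
  letI := f.toAlgebra
  haveI : Module.Finite R T := RingHom.finite_algebraMap.1 hfin
  haveI : FaithfulSMul R T := (faithfulSMul_iff_algebraMap_injective R T).2 hf
  haveI : Algebra.IsIntegral R T := Algebra.IsIntegral.of_finite R T
  have hmc : maximalIdeal R = (maximalIdeal T).comap (algebraMap R T) :=
    (IsLocalRing.eq_maximalIdeal (Ideal.isMaximal_comap_of_isIntegral_of_isMaximal (maximalIdeal T))).symm
  obtain ⟨t, u, hm, ht0, hu0, hreg⟩ := exists_params_two R hR
  have htm : algebraMap R T t ∈ maximalIdeal T := Ideal.mem_comap.1 (hmc ▸ hm ▸ Ideal.subset_span (by simp) : t ∈ (maximalIdeal T).comap (algebraMap R T))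
  have hum : algebraMap R T u ∈ maximalIdeal T := Ideal.mem_comap.1 (hmc ▸ hm ▸ Ideal.subset_span (by simp) : u ∈ (maximalIdeal T).comap (algebraMap R T))
  have hrad : ∃ n, maximalIdeal T ^ n ≤ Ideal.span {algebraMap R T t, algebraMap R T u} := by
    refine Ideal.exists_pow_le_of_le_radical_of_fg ?_ (Ideal.fg_of_isNoetherianRing _)
    rw [Ideal.radical_eq_sInf]
    refine le_sInf fun Q ⟨hQ, hQp⟩ => ?_
    haveI := hQp
    have h1 : Q.comap (algebraMap R T) = maximalIdeal R := le_antisymm
      (le_maximalIdeal (Ideal.IsPrime.ne_top (Ideal.IsPrime.comap _))) (by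
        rw [hm, Ideal.span_le]
        rintro w (rfl | rfl)
        exacts [hQ (Ideal.subset_span (by simp)), hQ (Ideal.subset_span (by simp))])
    haveI : Q.IsMaximal := Ideal.isMaximal_of_isIntegral_of_isMaximal_comap Q (h1 ▸ maximalIdeal.isMaximal R)
    exact (IsLocalRing.eq_maximalIdeal ‹Q.IsMaximal›).ge
  have hP : RegPair (⊤ : Ideal T) (algebraMap R T t) (algebraMap R T u) :=
    regPair_of_dep2 (dep2_top hdim) htm hum (fun h => ht0 (hf (h.trans (map_zero _).symm))) hrad
  haveI : Module.Free R T := free_of_pair hm hP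
  set k := ResidueField R
  let bT := Module.Free.chooseBasis R T
  -- the ideal
  let act : T → (T →ₗ[R] R) → (T →ₗ[R] R) := fun a φ => φ.comp (LinearMap.mulLeft R a)
  obtain ⟨i₀⟩ := bT.index_nonempty
  let φ₀ : T →ₗ[R] R := bT.coord i₀
  let L : T →ₗ[R] (T →ₗ[R] R) :=
    { toFun := fun a => act a φ₀
      map_add' := fun a b => LinearMap.ext fun z => by simp [act, add_mul]
      map_smul' := fun r a => LinearMap.ext fun z => by simp [act] }
  have hL : Function.Injective L := by
    refine (injective_iff_map_eq_zero L).2 fun a ha => by_contra fun ha0 => ?_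
    obtain ⟨r, hr, hmem⟩ := Submodule.exists_mem_ne_zero_of_ne_bot (Ideal.comap_ne_bot_of_integral_mem (R := R)
      (I := Ideal.span {a}) ha0 (Ideal.mem_span_singleton_self a) (Algebra.IsIntegral.isIntegral a))
    obtain ⟨a', ha'⟩ := Ideal.mem_span_singleton'.1 (Ideal.mem_comap.1 hr)
    have h1 := LinearMap.congr_fun ha (a' * bT i₀)
    change φ₀ (a * (a' * bT i₀)) = 0 at h1
    rw [← mul_assoc, mul_comm a, ha', ← Algebra.smul_def, map_smul] at h1
    simp [φ₀] at h1
    exact hmem h1
  let E : (T →ₗ[R] R) ≃ₗ[R] T := bT.toDualEquiv.symm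
  let A : T →ₗ[R] T := E.toLinearMap.comp L
  set r₀ := LinearMap.det A
  have hr₀ : r₀ ≠ 0 := fun h0 => by
    have hd : (LinearMap.toMatrix bT bT A).det = 0 := by rw [LinearMap.det_toMatrix]; exact h0
    obtain ⟨v, hv0, hv⟩ := Matrix.exists_mulVec_eq_zero_iff.2 hd
    have h1 : A (bT.equivFun.symm v) = 0 := by
      apply bT.equivFun.injective
      rw [map_zero, Module.Basis.equivFun_apply, ← LinearMap.toMatrix_mulVec_repr bT bT,
        ← Module.Basis.equivFun_apply, LinearEquiv.apply_symm_apply, hv]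
    exact hv0 (bT.equivFun.symm.injective ((E.injective.comp hL (h1.trans (show (0 : T) = (E ∘ L) 0 by simp))).trans (map_zero _).symm))
  have hr₀T : algebraMap R T r₀ ≠ 0 := fun h => hr₀ (hf (h.trans (map_zero _).symm))
  have hsur : ∀ φ, ∃ a, L a = r₀ • φ := fun φ => by
    refine ⟨Matrix.toLin bT bT (LinearMap.toMatrix bT bT A).adjugate (E φ), E.injective ?_⟩
    rw [map_smul]
    show A _ = _
    conv_lhs => rw [← Matrix.toLin_toMatrix bT bT A]
    rw [LinearMap.toMatrix_toLin, ← LinearMap.comp_apply, ← Matrix.toLin_mul bT bT bT, Matrix.mul_adjugate,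
      LinearMap.det_toMatrix, map_smul, Matrix.toLin_one]
    rfl
  have hLmul : ∀ c a, L (c * a) = act c (L a) := fun c a => LinearMap.ext fun z => by
    show φ₀ (c * a * z) = φ₀ (a * (c * z))
    rw [mul_left_comm, mul_assoc]
  let M : Ideal T :=
    { carrier := {a | ∃ φ, L a = r₀ • φ}
      zero_mem' := ⟨0, by simp⟩
      add_mem' := by rintro a b ⟨φ, hφ⟩ ⟨ψ, hψ⟩; exact ⟨φ + ψ, by rw [map_add, hφ, hψ, smul_add]⟩
      smul_mem' := by
        rintro c a ⟨φ, hφ⟩
        refine ⟨act c φ, ?_⟩
        rw [smul_eq_mul, hLmul, hφ]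
        exact LinearMap.ext fun z => rfl }
  choose lift hlift using hsur
  have hlM : ∀ φ, lift φ ∈ M := fun φ => ⟨φ, hlift φ⟩
  have huniq : ∀ {φ ψ : T →ₗ[R] R}, r₀ • φ = r₀ • ψ → φ = ψ := fun h => LinearMap.ext fun z =>
    mul_left_cancel₀ hr₀ (LinearMap.congr_fun h z)
  have hM : M ≠ ⊥ := fun h => by
    have h1 : lift φ₀ = 0 := by rw [← Ideal.mem_bot, ← h]; exact hlM φ₀
    have h2 := LinearMap.congr_fun (hlift φ₀) (bT i₀)
    rw [h1, map_zero] at h2
    simp [φ₀] at h2
    exact hr₀ h2.symm
  have hsm : ∀ (r : R) (a : T), L (algebraMap R T r * a) = r • L a := fun r a => by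
    rw [← Algebra.smul_def, map_smul]
  have hpair : RegPair M (algebraMap R T t) (algebraMap R T u) := by
    refine ⟨htm, hum, hP.ne₁, fun z hz w hw he => ?_, hrad⟩
    obtain ⟨φ, hφ⟩ := hz
    obtain ⟨ψ, hψ⟩ := hw
    have h1 := congrArg L he
    rw [hsm, hsm, hφ, hψ, smul_comm, smul_comm t] at h1
    have h2 := huniq h1
    choose Z hZ using fun i => hreg (φ (bT i)) (ψ (bT i)) (by
      simpa [smul_eq_mul] using LinearMap.congr_fun h2 (bT i))
    refine ⟨lift (bT.constr R Z), hlM _, hL ?_⟩
    rw [hsm, hlift, hφ, smul_comm]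
    congr 1
    exact bT.ext fun i => by simp [hZ]
  set J : Ideal T := Ideal.span {algebraMap R T t, algebraMap R T u}
  have hJM : ∀ {z : T} {φ : T →ₗ[R] R}, L z = r₀ • φ → (z ∈ J * M ↔ ∀ b, φ b ∈ maximalIdeal R) := by
    intro z φ hφ
    constructor
    · intro hz b
      obtain ⟨a, ⟨α, hα⟩, c, ⟨β, hβ⟩, rfl⟩ := mem_pair_mul.1 hz
      rw [map_add, hsm, hsm, hα, hβ, smul_comm t, smul_comm u, ← smul_add] at hφ
      rw [← huniq hφ, hm]
      exact Ideal.mem_span_pair.2 ⟨α b, β b, by simp [mul_comm]⟩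
    · intro h
      choose p q hpq using fun i => Ideal.mem_span_pair.1 (hm ▸ h (bT i))
      refine mem_pair_mul.2 ⟨lift (bT.constr R p), hlM _, lift (bT.constr R q), hlM _, hL ?_⟩
      rw [hφ, map_add, hsm, hsm, hlift, hlift, smul_comm t, smul_comm u, ← smul_add]
      congr 1
      exact bT.ext fun i => by simp [← hpq, mul_comm]
  refine ⟨M, Can.of_pair hdim hM hpair ?_⟩
  rw [covBy_ideal_iff (mul_le_soc _ _)]
  haveI : IsLocalHom (algebraMap R T) := ⟨fun r hr => by
    by_contra h
    have h1 : r ∈ maximalIdeal R := h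
    exact (IsLocalRing.mem_maximalIdeal _).1 (Ideal.mem_comap.1 (hmc ▸ h1)) hr⟩
  let κ := ResidueField T
  haveI : Module.Finite R κ := Module.Finite.of_surjective
    ((Ideal.Quotient.mkₐ R (maximalIdeal T)).toLinearMap) Ideal.Quotient.mk_surjective
  haveI : Module.Finite k κ := Module.Finite.of_restrictScalars_finite R k κ
  have hfun : ∀ {z : T} {φ : T →ₗ[R] R}, z ∈ soc J M → L z = r₀ • φ → ∀ r ∈ maximalIdeal T, ∀ b,
      φ (r * b) ∈ maximalIdeal R := fun {z φ} hz hφ r hr b => by
    refine (hJM (φ := act r φ) ?_).1 (hz.2 r hr) b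
    rw [hLmul, hφ]
    exact LinearMap.ext fun _ => rfl
  constructor
  · obtain ⟨g, hg⟩ : ∃ g : κ →ₗ[k] k, g 1 = 1 := by
      obtain ⟨g, hg⟩ := LinearMap.exists_leftInverse_of_injective (LinearMap.toSpanSingleton k κ 1)
        (LinearMap.ker_eq_bot.2 fun x y h => by
          simp [LinearMap.toSpanSingleton_apply] at h
          exact h)
      exact ⟨g, by simpa using LinearMap.congr_fun hg 1⟩
    choose v hv using fun i => residue_surjective (R := R) (g (residue T (bT i)))
    let φ := bT.constr R v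
    have hgφ : ∀ b, residue R (φ b) = g (residue T b) := by
      intro b
      have hlin : (Algebra.linearMap R k).comp φ =
          ((g.restrictScalars R).comp (Ideal.Quotient.mkₐ R (maximalIdeal T)).toLinearMap : T →ₗ[R] k) :=
        bT.ext fun i => by
          show residue R (φ (bT i)) = g (residue T (bT i))
          simp [φ, hv]
      exact LinearMap.congr_fun hlin b
    refine ⟨lift φ, ⟨hlM φ, fun r hr => ?_⟩, fun hJ => ?_⟩
    · refine (hJM (φ := act r φ) ?_).2 fun b => ?_
      · rw [hLmul, hlift]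
        exact LinearMap.ext fun _ => rfl
      · rw [← residue_eq_zero_iff]
        show residue R (φ (r * b)) = 0
        rw [hgφ, map_mul, (residue_eq_zero_iff r).2 hr, zero_mul, map_zero]
    · have h1 := (residue_eq_zero_iff _).2 ((hJM (hlift φ)).1 hJ 1)
      rw [hgφ, map_one, hg] at h1
      exact one_ne_zero h1
  · intro z hz hzJ w hw
    obtain ⟨φ, hφ⟩ := hz.1
    obtain ⟨ψ, hψ⟩ := hw.1
    have desc : ∀ {φ : T →ₗ[R] R}, (∀ r ∈ maximalIdeal T, ∀ b, φ (r * b) ∈ maximalIdeal R) →
        ∃ g : κ →ₗ[k] k, ∀ b, g (residue T b) = residue R (φ b) := by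
      intro φ h
      let g₀ : κ →ₗ[R] k := Submodule.liftQ ((maximalIdeal T).restrictScalars R) ((Algebra.linearMap R k).comp φ)
        fun r hr => by
          rw [LinearMap.mem_ker]
          show residue R (φ r) = 0
          rw [residue_eq_zero_iff, ← mul_one r]
          exact h r hr 1
      refine ⟨{ g₀ with map_smul' := fun c x => ?_ }, fun b => rfl⟩
      obtain ⟨c, rfl⟩ := residue_surjective c
      exact g₀.map_smul c x
    obtain ⟨g, hg⟩ := desc (hfun hz hφ)
    obtain ⟨g', hg'⟩ := desc (hfun hw hψ)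
    have hgne : g ≠ 0 := fun h0 => hzJ ((hJM hφ).2 fun b => (residue_eq_zero_iff _).1 (by rw [← hg, h0]; rfl))
    let θ : κ →ₗ[k] (κ →ₗ[k] k) :=
      { toFun := fun c => g.comp (LinearMap.mulLeft k c)
        map_add' := fun a b => LinearMap.ext fun z => by simp [add_mul]
        map_smul' := fun r a => LinearMap.ext fun z => by simp }
    have hθ : Function.Injective θ := (injective_iff_map_eq_zero θ).2 fun c hc => by_contra fun hc0 => hgne
      (LinearMap.ext fun y => by
        have h1 : θ c (c⁻¹ * y) = 0 := by rw [hc]; rfl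
        simpa [θ, ← mul_assoc, mul_inv_cancel₀ hc0] using h1)
    obtain ⟨c₀, hc₀⟩ := (LinearMap.injective_iff_surjective_of_finrank_eq_finrank
      Subspace.dual_finrank_eq.symm).1 hθ g'
    obtain ⟨c, rfl⟩ := residue_surjective c₀
    rw [show w = (w - c * z) + c * z by ring]
    refine add_mem (Submodule.mem_sup_left ((hJM (φ := ψ - act c φ) ?_).2 fun b => ?_))
      (Submodule.mem_sup_right (Ideal.mem_span_singleton'.2 ⟨c, rfl⟩))
    · rw [map_sub, hLmul, hφ, hψ, smul_sub]
      rfl
    · rw [← residue_eq_zero_iff]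
      show residue R (ψ b - φ (c * b)) = 0
      rw [map_sub, ← hg, ← hg', map_mul, ← hc₀]
      simp [θ]

end Groth.L05.PtChain
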