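import Groth.Agent.L05.PtChain.Can.Pair
import Groth.Agent.L05.PtChain.Basic
import Groth.Agent.L14.GrApprox.FormalModification
import Mathlib.RingTheory.LocalRing.Length
import Mathlib.RingTheory.Polynomial.IsIntegral
import Mathlib.RingTheory.KrullDimension.Polynomial
import Mathlib.RingTheory.Flat.FaithfullyFlat.Algebra

/-! Canonical ideals under flat local extensions with trivial closed fibre. -/

set_option autoImplicit false
set_option linter.style.haveILetI false
set_option backward.isDefEq.respectTransparency false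
set_option backward.isDefEq.respectTransparency.types false
set_option maxHeartbeats 800000

universe u

noncomputable section

namespace Groth.L05.PtChain

open IsLocalRing

/-- Flatness commutes with `z ∈ K, r * z ∈ L`. -/
theorem mem_map_inf_comap {A B : Type u} [CommRing A] [IsNoetherianRing A] [CommRing B] [Algebra A B]
    [Module.Flat A B] (K L : Ideal A) (r : A) (x : B) (hx : x ∈ K.map (algebraMap A B))
    (hrx : algebraMap A B r * x ∈ L.map (algebraMap A B)) :
    x ∈ Ideal.map (algebraMap A B) (K ⊓ Submodule.comap (LinearMap.mulLeft A r) L) := by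
  obtain ⟨m, g, hg⟩ := Submodule.fg_iff_exists_fin_generating_family.mp (IsNoetherian.noetherian K)
  obtain ⟨l, h, hh⟩ := Submodule.fg_iff_exists_fin_generating_family.mp (IsNoetherian.noetherian L)
  rw [← hg, ← Ideal.span, Ideal.map_span, ← Set.range_comp] at hx
  rw [← hh, ← Ideal.span, Ideal.map_span, ← Set.range_comp] at hrx
  obtain ⟨c, hc⟩ := (Submodule.mem_span_range_iff_exists_fun B).mp hx
  obtain ⟨d, hd⟩ := (Submodule.mem_span_range_iff_exists_fun B).mp hrx
  obtain ⟨s, al, y, hal, hxy⟩ := Groth.L14.GrApprox.exists_combination_of_relations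
    (fun (_ : Fin 1) => Fin.append (fun i => r * g i) fun j => -h j) (Fin.append c d) fun _ => by
      simp only [Fin.sum_univ_add, Fin.append_left, Fin.append_right, Algebra.smul_def, map_neg, map_mul, neg_mul,
        Finset.sum_neg_distrib]
      rw [← sub_eq_add_neg, sub_eq_zero]
      calc ∑ i, algebraMap A B r * algebraMap A B (g i) * c i
          = algebraMap A B r * x := by
            rw [← hc, Finset.mul_sum]
            exact Finset.sum_congr rfl fun i _ => by simp only [smul_eq_mul, Function.comp_apply]; ring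
        _ = _ := by
            rw [← hd]
            exact Finset.sum_congr rfl fun i _ => by simp only [smul_eq_mul, Function.comp_apply]; ring
  have hx' : x = ∑ t : Fin s, y t * algebraMap A B (∑ i, al t (Fin.castAdd l i) * g i) := by
    rw [← hc]
    calc ∑ i, c i • (algebraMap A B ∘ g) i
        = ∑ i, ∑ t, y t * algebraMap A B (al t (Fin.castAdd l i) * g i) := Finset.sum_congr rfl fun i _ => by
          have h1 := hxy (Fin.castAdd l i)
          rw [Fin.append_left] at h1
          rw [h1, smul_eq_mul, Finset.sum_mul]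
          exact Finset.sum_congr rfl fun t _ => by simp only [Algebra.smul_def, map_mul, Function.comp_apply]; ring
      _ = _ := by
          rw [Finset.sum_comm]
          exact Finset.sum_congr rfl fun t _ => by rw [map_sum, Finset.mul_sum]
  rw [hx']
  refine Ideal.sum_mem _ fun t _ => Ideal.mul_mem_left _ _ (Ideal.mem_map_of_mem _ ⟨?_, ?_⟩)
  · exact Ideal.sum_mem _ fun i _ => Ideal.mul_mem_left _ _ (hg.le (Submodule.subset_span ⟨i, rfl⟩))
  · show r * ∑ i, al t (Fin.castAdd l i) * g i ∈ L
    have h1 := hal t 0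
    simp only [Fin.sum_univ_add, Fin.append_left, Fin.append_right, neg_mul, Finset.sum_neg_distrib] at h1
    rw [Finset.mul_sum, show (∑ i, r * (al t (Fin.castAdd l i) * g i)) = ∑ j, h j * al t (Fin.natAdd m j) by
      refine Eq.trans (Finset.sum_congr rfl fun i _ => ?_) (sub_eq_zero.1 (by rwa [sub_eq_add_neg]))
      ring]
    exact Ideal.sum_mem _ fun j _ => Ideal.mul_mem_right _ _ (hh.le (Submodule.subset_span ⟨j, rfl⟩))

theorem mem_sup_span_unit {S : Type u} [CommRing S] {K : Ideal S} {j z : S} (hj : j ∈ K) (c : Sˣ) :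
    z ∈ K ⊔ Ideal.span {j + c * z} := by
  have h : ↑c⁻¹ * (j + ↑c * z) + -(↑c⁻¹ * j) ∈ K ⊔ Ideal.span {j + c * z} :=
    add_mem (Submodule.mem_sup_right (Ideal.mul_mem_left _ _ (Ideal.mem_span_singleton_self _)))
      (Submodule.mem_sup_left (neg_mem (Ideal.mul_mem_left _ _ hj)))
  have he : ↑c⁻¹ * (j + ↑c * z) + -(↑c⁻¹ * j) = z := by
    rw [mul_add, ← mul_assoc, Units.inv_mul]; ring
  rwa [he] at h

variable {T T' : Type u} [CommRing T] [IsLocalRing T] [IsNoetherianRing T] [CommRing T'] [IsLocalRing T']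
  [Algebra T T'] [Module.Flat T T'] [IsLocalHom (algebraMap T T')]

local notation "σ" => algebraMap T T'

theorem faithfullyFlat_ext : Module.FaithfullyFlat T T' := Module.FaithfullyFlat.of_flat_of_isLocalHom

theorem mem_of_map_mem {K : Ideal T} {x : T} (h : σ x ∈ K.map σ) : x ∈ K := by
  haveI := faithfullyFlat_ext (T := T) (T' := T')
  rwa [← Ideal.comap_map_eq_self_of_faithfullyFlat (B := T') K]

theorem ext_injective : Function.Injective σ := (injective_iff_map_eq_zero _).2 fun x hx => by
  have : x ∈ (⊥ : Ideal T) := mem_of_map_mem (T' := T') (by rw [Ideal.map_bot, hx]; exact zero_mem _)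
  exact this

theorem soc_map (hm : (maximalIdeal T).map σ = maximalIdeal T') (J M : Ideal T) :
    (soc J M).map σ = soc (J.map σ) (M.map σ) := by
  classical
  refine le_antisymm (Ideal.map_le_iff_le_comap.2 fun z hz => ⟨Ideal.mem_map_of_mem _ hz.1, fun r hr => ?_⟩)
    fun z hz => ?_
  · rw [← hm] at hr
    induction hr using Submodule.span_induction with
    | mem r hr =>
      obtain ⟨r, hr, rfl⟩ := hr
      rw [← map_mul, ← Ideal.map_mul]
      exact Ideal.mem_map_of_mem _ (hz.2 r hr)
    | zero => rw [zero_mul]; exact zero_mem _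
    | add r s _ _ hr hs => rw [add_mul]; exact add_mem hr hs
    | smul c r _ hr => rw [smul_eq_mul, mul_assoc]; exact Ideal.mul_mem_left _ _ hr
  · obtain ⟨S, hS⟩ := IsNoetherian.noetherian (maximalIdeal T)
    have key : ∀ F : Finset T, F ⊆ S → ∃ K : Ideal T, K ≤ M ∧ (∀ r ∈ F, ∀ k ∈ K, r * k ∈ J * M) ∧ z ∈ K.map σ := by
      intro F
      induction F using Finset.induction_on with
      | empty => exact fun _ => ⟨M, le_rfl, by simp, hz.1⟩
      | insert r F _ ih =>
        intro hF
        obtain ⟨K, hKM, hK, hzK⟩ := ih fun s hs => hF (Finset.mem_insert_of_mem hs)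
        refine ⟨K ⊓ Submodule.comap (LinearMap.mulLeft T r) (J * M), inf_le_left.trans hKM, fun s hs k hk => ?_,
          mem_map_inf_comap K (J * M) r z hzK ?_⟩
        · rcases Finset.mem_insert.1 hs with rfl | hs
          exacts [hk.2, hK s hs k hk.1]
        · rw [Ideal.map_mul]
          refine hz.2 _ ?_
          rw [← hm, ← hS]
          exact Ideal.mem_map_of_mem _ (Submodule.subset_span (hF (Finset.mem_insert_self r F)))
    obtain ⟨K, hKM, hK, hzK⟩ := key S subset_rfl
    refine Ideal.map_mono (fun k hk => ?_) hzK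
    refine ⟨hKM hk, fun r hr => ?_⟩
    rw [← hS] at hr
    induction hr using Submodule.span_induction with
    | mem r hr => exact hK r hr k hk
    | zero => rw [zero_mul]; exact zero_mem _
    | add r s _ _ hr hs => rw [add_mul]; exact add_mem hr hs
    | smul c r _ hr => rw [smul_eq_mul, mul_assoc]; exact Ideal.mul_mem_left _ _ hr

theorem span_pair_map (x y : T) : (Ideal.span {x, y}).map σ = Ideal.span {σ x, σ y} := by
  rw [Ideal.map_span, Set.image_pair]

theorem RegPair.map (hm : (maximalIdeal T).map σ = maximalIdeal T') {M : Ideal T} {x y : T} (h : RegPair M x y) :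
    RegPair (M.map σ) (σ x) (σ y) := by
  refine ⟨hm ▸ Ideal.mem_map_of_mem _ h.mem₁, hm ▸ Ideal.mem_map_of_mem _ h.mem₂,
    fun h0 => h.ne₁ (ext_injective (T' := T') (h0.trans (map_zero _).symm)), fun z hz w hw he => ?_, ?_⟩
  · have h1 := mem_map_inf_comap M (Ideal.span {x} * M) y z hz (by
      rw [Ideal.map_mul, Ideal.map_span, Set.image_singleton, he]
      exact Ideal.mul_mem_mul (Ideal.mem_span_singleton_self _) hw)
    have h2 : M ⊓ Submodule.comap (LinearMap.mulLeft T y) (Ideal.span {x} * M) ≤ Ideal.span {x} * M := by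
      rintro k ⟨hk, hk'⟩
      obtain ⟨v, hv, hv'⟩ := Ideal.mem_span_singleton_mul.1 (show y * k ∈ Ideal.span {x} * M from hk')
      obtain ⟨u, hu, rfl⟩ := h.reg k hk v hv hv'.symm
      exact Ideal.mul_mem_mul (Ideal.mem_span_singleton_self _) hu
    have h3 := Ideal.map_mono (f := σ) h2 h1
    rw [Ideal.map_mul, Ideal.map_span, Set.image_singleton] at h3
    obtain ⟨v, hv, hv'⟩ := Ideal.mem_span_singleton_mul.1 h3
    exact ⟨v, hv, hv'.symm⟩
  · obtain ⟨n, hn⟩ := h.rad
    exact ⟨n, by rw [← hm, ← Ideal.map_pow, ← span_pair_map]; exact Ideal.map_mono hn⟩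

theorem covBy_map_iff (hm : (maximalIdeal T).map σ = maximalIdeal T') (J M : Ideal T) :
    J * M ⋖ soc J M ↔ J.map σ * M.map σ ⋖ soc (J.map σ) (M.map σ) := by
  rw [covBy_ideal_iff (mul_le_soc _ _), covBy_ideal_iff (mul_le_soc _ _), ← soc_map hm, ← Ideal.map_mul]
  constructor
  · rintro ⟨⟨z, hz, hzJ⟩, h⟩
    have hgen : (soc J M).map σ ≤ (J * M).map σ ⊔ Ideal.span {σ z} := by
      rw [← Set.image_singleton, ← Ideal.map_span, ← Ideal.map_sup]
      exact Ideal.map_mono (h z hz hzJ)
    refine ⟨⟨σ z, Ideal.mem_map_of_mem _ hz, fun h' => hzJ (mem_of_map_mem h')⟩, fun w hw hwJ => hgen.trans ?_⟩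
    obtain ⟨j, hj, v, hv, rfl⟩ := Submodule.mem_sup.1 (hgen hw)
    obtain ⟨c, rfl⟩ := Ideal.mem_span_singleton'.1 hv
    obtain ⟨c, rfl⟩ : IsUnit c := by
      by_contra hc
      refine hwJ (add_mem hj ?_)
      have h1 : σ z ∈ soc (J.map σ) (M.map σ) := soc_map hm J M ▸ Ideal.mem_map_of_mem _ hz
      rw [Ideal.map_mul]
      exact h1.2 c hc
    exact sup_le le_sup_left ((Ideal.span_singleton_le_iff_mem _).2 (mem_sup_span_unit hj c))
  · rintro ⟨⟨z, hz, hzJ⟩, h⟩
    refine ⟨?_, fun w hw hwJ v hv => ?_⟩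
    · by_contra hc
      push Not at hc
      exact hzJ (Ideal.map_mono (fun w hw => hc w hw) hz)
    · refine mem_of_map_mem (T' := T') ?_
      rw [Ideal.map_sup, Ideal.map_span, Set.image_singleton]
      exact h (σ w) (Ideal.mem_map_of_mem _ hw) (fun h' => hwJ (mem_of_map_mem h')) (Ideal.mem_map_of_mem _ hv)

theorem Can.map [IsDomain T] [IsDomain T'] [IsNoetherianRing T'] (hm : (maximalIdeal T).map σ = maximalIdeal T')
    (hdim : ringKrullDim T = 2) (hdim' : ringKrullDim T' = 2) {M : Ideal T} (h : Can M) : Can (M.map σ) := by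
  obtain ⟨x, y, hp, hc⟩ := h.exists_pair hdim
  refine Can.of_pair hdim' (fun h0 => h.ne_bot ((Ideal.map_eq_bot_iff_of_injective ext_injective).1 h0)) (hp.map hm) ?_
  rw [← span_pair_map]
  exact (covBy_map_iff hm _ _).1 hc

theorem Can.of_map [IsDomain T] [IsDomain T'] (hm : (maximalIdeal T).map σ = maximalIdeal T') {M : Ideal T}
    (h : Can (M.map σ)) : Can M := by
  refine ⟨fun h0 => h.ne_bot (by rw [h0, Ideal.map_bot]), fun a ha ha0 z hz hr => ?_, fun x y hp => ?_⟩
  · have h1 : ∀ r ∈ maximalIdeal T', r * σ z ∈ Ideal.span {σ a} * M.map σ := by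
      intro r hr'
      rw [← hm] at hr'
      induction hr' using Submodule.span_induction with
      | mem r hr' =>
        obtain ⟨r, hr', rfl⟩ := hr'
        obtain ⟨w, hw, he⟩ := hr r hr'
        rw [← map_mul, he, map_mul]
        exact Ideal.mul_mem_mul (Ideal.mem_span_singleton_self _) (Ideal.mem_map_of_mem _ hw)
      | zero => rw [zero_mul]; exact zero_mem _
      | add r s _ _ hr hs => rw [add_mul]; exact add_mem hr hs
      | smul c r _ hr => rw [smul_eq_mul, mul_assoc]; exact Ideal.mul_mem_left _ _ hr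
    obtain ⟨v, hv, hv'⟩ := h.dep (σ a) (hm ▸ Ideal.mem_map_of_mem _ ha)
      (fun h0 => ha0 (ext_injective (T' := T') (h0.trans (map_zero _).symm))) (σ z) (Ideal.mem_map_of_mem _ hz)
      fun r hr' => (Ideal.mem_span_singleton_mul.1 (h1 r hr')).imp fun w hw => ⟨hw.1, hw.2.symm⟩
    obtain ⟨w, hw, hw'⟩ := Ideal.mem_span_singleton_mul.1 (mem_of_map_mem (T' := T') (K := Ideal.span {a} * M) (x := z) (by
      rw [Ideal.map_mul, Ideal.map_span, Set.image_singleton, hv']
      exact Ideal.mul_mem_mul (Ideal.mem_span_singleton_self _) hv))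
    exact ⟨w, hw, hw'.symm⟩
  · refine (covBy_map_iff hm _ _).2 ?_
    rw [span_pair_map]
    exact h.socle _ _ (hp.map hm)

omit [IsNoetherianRing T] in
theorem hlin_ext (hm : (maximalIdeal T).map σ = maximalIdeal T') {μ : ℕ} (h : HLin T μ) : HLin T' μ := fun r => by
  have e : (T' ⧸ maximalIdeal T' ^ r) ≃ₗ[T'] TensorProduct T T' (T ⧸ maximalIdeal T ^ r) := by
    rw [← hm, ← Ideal.map_pow]
    exact (Algebra.TensorProduct.quotIdealMapEquivTensorQuot T' (maximalIdeal T ^ r)).toLinearEquiv
  rw [e.length_eq, IsLocalRing.length_baseChange, hm, h r]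
  have h1 : Module.length T' (T' ⧸ maximalIdeal T') = 1 := by
    haveI : IsSimpleModule T' (T' ⧸ maximalIdeal T') :=
      isSimpleModule_iff_isCoatom.2 (maximalIdeal.isMaximal T').out
    exact Module.length_eq_one T' _
  rw [h1, mul_one]

/-! ### The generic extension -/

variable (T)

omit [IsNoetherianRing T] [IsLocalRing T'] [Algebra T T'] [Module.Flat T T'] [IsLocalHom (algebraMap T T')] in
instance isPrime_map_C_maximalIdeal : ((maximalIdeal T).map (Polynomial.C : T →+* Polynomial T)).IsPrime :=
  Ideal.isPrime_map_C_of_isPrime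

/-- `T(X)`: the residue field becomes infinite. -/
abbrev GPt : Type u := Localization.AtPrime ((maximalIdeal T).map (Polynomial.C : T →+* Polynomial T))

end Groth.L05.PtChain
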