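import Groth.Agent.L05.PtChain.Can.Pair
import Mathlib.Algebra.Polynomial.Eval.Defs
import Mathlib.Algebra.Polynomial.Eval.Degree

/-! Binary forms with coefficients in an ideal. -/

set_option autoImplicit false
set_option linter.style.haveILetI false

universe u

noncomputable section

namespace Groth.L05.PtChain

open IsLocalRing

variable {T : Type u} [CommRing T]

/-- `∑ c i * x ^ (n - i) * y ^ i`. -/
def hform (x y : T) (c : ℕ → T) : ℕ → T
  | 0 => c 0
  | n + 1 => x * hform x y c n + c (n + 1) * y ^ (n + 1)

theorem hform_add (x y : T) (c d : ℕ → T) (n : ℕ) :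
    hform x y (fun i => c i + d i) n = hform x y c n + hform x y d n := by
  induction n with
  | zero => rfl
  | succ n ih => simp only [hform, ih]; ring

theorem hform_congr (x y : T) {c d : ℕ → T} (n : ℕ) (h : ∀ i ≤ n, c i = d i) : hform x y c n = hform x y d n := by
  induction n with
  | zero => exact h 0 le_rfl
  | succ n ih => simp only [hform, ih fun i hi => h i (by omega), h (n + 1) le_rfl]

theorem mul_hform_shift (x y : T) (c : ℕ → T) (n : ℕ) :
    y * hform x y c n = hform x y (fun | 0 => 0 | i + 1 => c i) (n + 1) := by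
  induction n with
  | zero => simp [hform, mul_comm]
  | succ n ih =>
    rw [hform, hform, ← ih]
    ring

theorem mem_pair_pow_mul [IsLocalRing T] (x y : T) (L : Ideal T) : ∀ (n : ℕ) (t : T),
    t ∈ Ideal.span {x, y} ^ n * L → ∃ c : ℕ → T, (∀ i, c i ∈ L) ∧ t = hform x y c n := by
  intro n
  induction n with
  | zero =>
    intro t ht
    rw [pow_zero, Ideal.one_eq_top, Ideal.top_mul] at ht
    exact ⟨fun _ => t, fun _ => ht, rfl⟩
  | succ n ih =>
    intro t ht
    rw [pow_succ', mul_assoc] at ht
    obtain ⟨a, ha, b, hb, rfl⟩ := mem_pair_mul.1 ht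
    obtain ⟨c, hc, rfl⟩ := ih a ha
    obtain ⟨d, hd, rfl⟩ := ih b hb
    let c' : ℕ → T := fun i => if i ≤ n then c i else 0
    refine ⟨fun i => c' i + (fun | 0 => 0 | i + 1 => d i : ℕ → T) i, fun i => add_mem ?_ ?_, ?_⟩
    · simp only [c']
      split_ifs
      exacts [hc i, zero_mem _]
    · rcases i with _ | i
      exacts [zero_mem _, hd i]
    · rw [hform_add, ← mul_hform_shift]
      congr 1
      rw [hform, show c' (n + 1) = 0 by simp [c'], zero_mul, add_zero,
        hform_congr x y n fun i hi => (show c' i = c i by simp [c', hi])]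

theorem hform_mem {x y : T} {L : Ideal T} {c : ℕ → T} : ∀ (n : ℕ), (∀ i ≤ n, c i ∈ L) →
    hform x y c n ∈ Ideal.span {x, y} ^ n * L := by
  intro n
  induction n with
  | zero => intro h; simpa [hform] using h 0 le_rfl
  | succ n ih =>
    intro h
    rw [hform]
    refine add_mem ?_ ?_
    · rw [pow_succ', mul_assoc]
      exact Ideal.mul_mem_mul (Ideal.subset_span (by simp)) (ih fun i hi => h i (by omega))
    · rw [mul_comm (c (n + 1))]
      exact Ideal.mul_mem_mul (Ideal.pow_mem_pow (Ideal.subset_span (by simp)) _) (h (n + 1) le_rfl)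

section Qreg

variable [IsLocalRing T] [IsDomain T] {M : Ideal T} {x y : T}

theorem RegPair.reg_pow (h : RegPair M x y) : ∀ (j : ℕ) (z w : T), z ∈ M → w ∈ M → y ^ j * z = x * w →
    ∃ v ∈ M, z = x * v := by
  intro j
  induction j with
  | zero => intro z w _ hw he; exact ⟨w, hw, by simpa using he⟩
  | succ j ih =>
    intro z w hz hw he
    obtain ⟨v, hv, hyz⟩ := ih (y * z) w (Ideal.mul_mem_left _ _ hz) hw (by rw [← he]; ring)
    exact h.reg z hz v hv hyz

/-- Quasi regularity. -/
theorem RegPair.coeff_mem (h : RegPair M x y) : ∀ (n : ℕ) (c : ℕ → T), (∀ i, c i ∈ M) → hform x y c n = 0 →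
    ∀ i ≤ n, c i ∈ Ideal.span {x, y} * M := by
  intro n
  induction n with
  | zero =>
    intro c _ he i hi
    obtain rfl : i = 0 := by omega
    rw [show c 0 = 0 from he]
    exact zero_mem _
  | succ n ih =>
    intro c hc he i hi
    rw [hform] at he
    have hmem : hform x y c n ∈ M := Ideal.mul_le_right (hform_mem n fun i _ => hc i)
    obtain ⟨v, hv, hv'⟩ := h.reg_pow (n + 1) (c (n + 1)) (-hform x y c n) (hc _) (neg_mem hmem)
      (by linear_combination he)
    let c' : ℕ → T := fun i => if i = n then c n + y * v else c i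
    have hc' : ∀ i, c' i ∈ M := fun i => by
      simp only [c']
      split_ifs
      exacts [add_mem (hc n) (Ideal.mul_mem_left _ _ hv), hc i]
    have he' : hform x y c' n = 0 := by
      have h1 : hform x y c' n = hform x y c n + y ^ (n + 1) * v := by
        rcases n with _ | n
        · simp [hform, c']
        · simp only [hform]
          rw [hform_congr x y n (d := c) fun i hi => by simp [c', show i ≠ n + 1 by omega]]
          simp [c']
          ring
      rw [h1]
      refine mul_left_cancel₀ h.ne₁ ?_
      rw [mul_zero]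
      linear_combination he - y ^ (n + 1) * hv'
    rcases Nat.lt_or_ge i (n + 1) with hlt | hge
    · have h2 := ih c' hc' he' i (by omega)
      by_cases hin : i = n
      · subst hin
        have h3 : c' i = c i + y * v := by simp [c']
        rw [h3] at h2
        rw [show c i = (c i + y * v) - y * v by ring]
        exact sub_mem h2 (Ideal.mul_mem_mul (Ideal.subset_span (by simp)) hv)
      · simpa [c', hin] using h2
    · obtain rfl : i = n + 1 := by omega
      rw [hv']
      exact Ideal.mul_mem_mul (Ideal.subset_span (by simp)) hv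

theorem RegPair.coeff_mem_of_mem (h : RegPair M x y) {n : ℕ} {c : ℕ → T} (hc : ∀ i, c i ∈ M) {L : Ideal T}
    (hL : L ≤ M) (hJ : Ideal.span {x, y} * M ≤ L) (hm : hform x y c n ∈ Ideal.span {x, y} ^ n * L) :
    ∀ i ≤ n, c i ∈ L := by
  obtain ⟨d, hd, he⟩ := mem_pair_pow_mul x y L n _ hm
  intro i hi
  have h1 := h.coeff_mem n (fun i => c i + (-1) * d i)
    (fun i => add_mem (hc i) (Ideal.mul_mem_left _ _ (hL (hd i)))) (by
      have h2 : ∀ m, hform x y (fun i => (-1) * d i) m = (-1) * hform x y d m := by
        intro m
        induction m with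
        | zero => rfl
        | succ m ihm => simp only [hform, ihm]; ring
      rw [hform_add, h2, ← he]; ring) i hi
  rw [show c i = (c i + (-1) * d i) + d i by ring]
  exact add_mem (hJ h1) (hd i)

end Qreg

end Groth.L05.PtChain
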