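import Groth.Agent.L05.PtChain.Can.Ext

/-! The generic extension `T(X)`. -/

set_option autoImplicit false
set_option linter.style.haveILetI false
set_option backward.isDefEq.respectTransparency false
set_option backward.isDefEq.respectTransparency.types false

universe u

noncomputable section

namespace Groth.L05.PtChain

open IsLocalRing

variable (T : Type u) [CommRing T] [IsLocalRing T] [IsNoetherianRing T]

theorem gpt_isNoetherian : IsNoetherianRing (GPt T) :=
  IsLocalization.isNoetherianRing ((maximalIdeal T).map (Polynomial.C : T →+* Polynomial T)).primeCompl _ inferInstance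

omit [IsNoetherianRing T] in
theorem gpt_flat : Module.Flat T (GPt T) :=
  haveI := IsLocalization.flat (GPt T) ((maximalIdeal T).map (Polynomial.C : T →+* Polynomial T)).primeCompl
  Module.Flat.trans T (Polynomial T) (GPt T)

omit [IsNoetherianRing T] in
theorem gpt_map_maximalIdeal : (maximalIdeal T).map (algebraMap T (GPt T)) = maximalIdeal (GPt T) := by
  rw [IsScalarTower.algebraMap_eq T (Polynomial T) (GPt T), ← Ideal.map_map, Polynomial.algebraMap_eq,
    Localization.AtPrime.map_eq_maximalIdeal]

omit [IsNoetherianRing T] in
theorem gpt_isLocalHom : IsLocalHom (algebraMap T (GPt T)) := by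
  refine ⟨fun r hr => ?_⟩
  by_contra h
  have h1 : algebraMap T (GPt T) r ∈ maximalIdeal (GPt T) := gpt_map_maximalIdeal T ▸ Ideal.mem_map_of_mem _ h
  exact h1 hr

omit [IsNoetherianRing T] in
theorem gpt_isDomain [IsDomain T] : IsDomain (GPt T) :=
  IsLocalization.isDomain_localization (Ideal.primeCompl_le_nonZeroDivisors _)

omit [IsNoetherianRing T] in
theorem gpt_isNormal [IsDomain T] [IsIntegrallyClosed T] : IsIntegrallyClosed (GPt T) :=
  isIntegrallyClosed_of_isLocalization (GPt T) ((maximalIdeal T).map (Polynomial.C : T →+* Polynomial T)).primeCompl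
    (Ideal.primeCompl_le_nonZeroDivisors _)

theorem gpt_dim : ringKrullDim (GPt T) = ringKrullDim T := by
  rw [IsLocalization.AtPrime.ringKrullDim_eq_height ((maximalIdeal T).map (Polynomial.C : T →+* Polynomial T)) (GPt T),
    Polynomial.height_map_C, IsLocalRing.maximalIdeal_height_eq_ringKrullDim]

omit [IsNoetherianRing T] in
theorem gpt_infinite : Infinite (ResidueField (GPt T)) := by
  let ρ : Polynomial (ResidueField T) → ResidueField (GPt T) := fun p =>
    residue (GPt T) (algebraMap (Polynomial T) (GPt T) (Polynomial.map_surjective (residue T) residue_surjective p).choose)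
  refine Infinite.of_injective ρ fun p q h => ?_
  set p₀ := (Polynomial.map_surjective (residue T) residue_surjective p).choose
  set q₀ := (Polynomial.map_surjective (residue T) residue_surjective q).choose
  have hp : Polynomial.map (residue T) p₀ = p := (Polynomial.map_surjective (residue T) residue_surjective p).choose_spec
  have hq : Polynomial.map (residue T) q₀ = q := (Polynomial.map_surjective (residue T) residue_surjective q).choose_spec
  have h1 : algebraMap (Polynomial T) (GPt T) (p₀ - q₀) ∈ maximalIdeal (GPt T) := by
    rw [← residue_eq_zero_iff, map_sub, map_sub, sub_eq_zero]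
    exact h
  rw [IsLocalization.AtPrime.to_map_mem_maximal_iff (GPt T) ((maximalIdeal T).map (Polynomial.C : T →+* Polynomial T))] at h1
  rw [← hp, ← hq, ← sub_eq_zero, ← Polynomial.map_sub]
  ext n
  rw [Polynomial.coeff_map, Polynomial.coeff_zero, residue_eq_zero_iff]
  exact Ideal.mem_map_C_iff.1 h1 n

end Groth.L05.PtChain
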