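import Groth.Agent.L01.Regular
import Mathlib.RingTheory.Ideal.AssociatedPrime.Basic
import Mathlib.RingTheory.Ideal.AssociatedPrime.Finiteness
import Mathlib.RingTheory.Ideal.KrullsHeightTheorem
import Mathlib.RingTheory.Nakayama
import Mathlib.Order.Cover
import Mathlib.RingTheory.IntegralClosure.IntegrallyClosed

/-! Regular pairs on an ideal and canonical ideals of a two dimensional local domain. -/

set_option autoImplicit false
set_option linter.style.haveILetI false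

universe u

noncomputable section

namespace Groth.L05.PtChain

open IsLocalRing

variable {T : Type u} [CommRing T] [IsLocalRing T]

/-- The socle of `M` modulo `J * M`. -/
def soc (J M : Ideal T) : Ideal T where
  carrier := {z | z ∈ M ∧ ∀ r ∈ maximalIdeal T, r * z ∈ J * M}
  zero_mem' := ⟨zero_mem _, fun r _ => by rw [mul_zero]; exact zero_mem _⟩
  add_mem' := fun h h' => ⟨add_mem h.1 h'.1, fun r hr => by rw [mul_add]; exact add_mem (h.2 r hr) (h'.2 r hr)⟩
  smul_mem' := fun c z h => ⟨Ideal.mul_mem_left _ c h.1, fun r hr => by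
    rw [smul_eq_mul, mul_left_comm]; exact Ideal.mul_mem_left _ _ (h.2 r hr)⟩

theorem mem_soc {J M : Ideal T} {z : T} : z ∈ soc J M ↔ z ∈ M ∧ ∀ r ∈ maximalIdeal T, r * z ∈ J * M := Iff.rfl

theorem mul_le_soc (J M : Ideal T) : J * M ≤ soc J M := fun _ hz =>
  ⟨Ideal.mul_le_right hz, fun r _ => Ideal.mul_mem_left _ r hz⟩

/-- `x, y` is a regular sequence on `M` and a system of parameters. -/
structure RegPair (M : Ideal T) (x y : T) : Prop where
  mem₁ : x ∈ maximalIdeal T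
  mem₂ : y ∈ maximalIdeal T
  ne₁ : x ≠ 0
  reg : ∀ z ∈ M, ∀ w ∈ M, y * z = x * w → ∃ v ∈ M, z = x * v
  rad : ∃ n, maximalIdeal T ^ n ≤ Ideal.span {x, y}

/-- Depth two. -/
def Dep2 (M : Ideal T) : Prop :=
  ∀ a ∈ maximalIdeal T, a ≠ 0 → ∀ z ∈ M, (∀ r ∈ maximalIdeal T, ∃ w ∈ M, r * z = a * w) → ∃ v ∈ M, z = a * v

/-- A canonical ideal: of depth two, with one dimensional socle modulo systems of parameters. -/
structure Can (M : Ideal T) : Prop where
  ne_bot : M ≠ ⊥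
  dep : Dep2 M
  socle : ∀ x y, RegPair M x y → Ideal.span {x, y} * M ⋖ soc (Ideal.span {x, y}) M

theorem mem_pair_mul {M : Ideal T} {x y t : T} :
    t ∈ Ideal.span {x, y} * M ↔ ∃ a ∈ M, ∃ b ∈ M, t = x * a + y * b := by
  rw [Ideal.span_insert, Ideal.sup_mul, Submodule.mem_sup]
  simp only [Ideal.mem_span_singleton_mul]
  constructor
  · rintro ⟨_, ⟨a, ha, rfl⟩, _, ⟨b, hb, rfl⟩, rfl⟩
    exact ⟨a, ha, b, hb, rfl⟩
  · rintro ⟨a, ha, b, hb, rfl⟩
    exact ⟨_, ⟨a, ha, rfl⟩, _, ⟨b, hb, rfl⟩, rfl⟩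

theorem covBy_ideal_iff {K S : Ideal T} (hle : K ≤ S) :
    K ⋖ S ↔ (∃ z ∈ S, z ∉ K) ∧ ∀ z ∈ S, z ∉ K → S ≤ K ⊔ Ideal.span {z} := by
  constructor
  · intro h
    refine ⟨SetLike.exists_of_lt h.lt, fun z hz hzK => ?_⟩
    rcases h.eq_or_eq (c := K ⊔ Ideal.span {z}) le_sup_left (sup_le hle ((Ideal.span_singleton_le_iff_mem _).2 hz)) with h' | h'
    · exact absurd (h' ▸ Submodule.mem_sup_right (Ideal.mem_span_singleton_self z)) hzK
    · exact h'.ge
  · rintro ⟨⟨z, hz, hzK⟩, h⟩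
    refine ⟨lt_of_le_of_ne hle fun he => hzK (he ▸ hz), fun c h1 h2 => ?_⟩
    obtain ⟨w, hw, hwK⟩ := SetLike.exists_of_lt h1
    exact not_le_of_gt h2 ((h w (h2.le hw) hwK).trans (sup_le h1.le ((Ideal.span_singleton_le_iff_mem _).2 hw)))

section Domain

variable [IsDomain T] {M : Ideal T}

theorem RegPair.ne₂ [IsNoetherianRing T] {x y : T} (h : RegPair M x y) (hM : M ≠ ⊥) : y ≠ 0 := by
  rintro rfl
  refine hM (Submodule.eq_bot_of_le_smul_of_le_jacobson_bot (maximalIdeal T) M (Ideal.fg_of_isNoetherianRing _)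
    (fun z hz => ?_) (maximalIdeal_le_jacobson _))
  obtain ⟨v, hv, rfl⟩ := h.reg z hz 0 (zero_mem _) (by simp)
  exact Submodule.smul_mem_smul h.mem₁ hv

theorem RegPair.symm [IsNoetherianRing T] {x y : T} (h : RegPair M x y) (hM : M ≠ ⊥) : RegPair M y x :=
  ⟨h.mem₂, h.mem₁, h.ne₂ hM, fun z hz w hw he => by
    obtain ⟨v, hv, rfl⟩ := h.reg w hw z hz he.symm
    exact ⟨v, hv, mul_left_cancel₀ h.ne₁ (by rw [he]; ring)⟩, by rw [Set.pair_comm]; exact h.rad⟩

theorem RegPair.mem_of_forall {x y : T} (h : RegPair M x y) {z : T} (hz : z ∈ M)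
    (hr : ∀ r ∈ maximalIdeal T, ∃ w ∈ M, r * z = x * w) : ∃ v ∈ M, z = x * v := by
  obtain ⟨w, hw, he⟩ := hr y h.mem₂
  exact h.reg z hz w hw he

theorem RegPair.dep2 {x y : T} (h : RegPair M x y) : Dep2 M := by
  intro a ha ha0 z hz hr
  obtain ⟨w, hw, hxz⟩ := hr x h.mem₁
  obtain ⟨w', hw', hyz⟩ := hr y h.mem₂
  obtain ⟨v, hv, rfl⟩ := h.reg w hw w' hw' (mul_left_cancel₀ ha0 (by
    rw [mul_left_comm, ← hxz, mul_left_comm a, ← hyz]; ring))
  exact ⟨v, hv, mul_left_cancel₀ h.ne₁ (by rw [hxz]; ring)⟩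

theorem soc_transfer {x y y' : T} (h : RegPair M x y) (h' : RegPair M x y') {z : T}
    (hz : z ∈ soc (Ideal.span {x, y}) M) :
    ∃ z' ∈ soc (Ideal.span {x, y'}) M, (∃ a ∈ M, y' * z = x * a + y * z') ∧
      (z' ∈ Ideal.span {x, y'} * M → z ∈ Ideal.span {x, y} * M) := by
  obtain ⟨a, ha, z', hz', he⟩ := mem_pair_mul.1 (hz.2 y' h'.mem₂)
  refine ⟨z', ⟨hz', fun r hr => ?_⟩, ⟨a, ha, he⟩, fun hz'' => ?_⟩
  · obtain ⟨p, hp, n, hn, hrz⟩ := mem_pair_mul.1 (hz.2 r hr)
    obtain ⟨v, hv, hv'⟩ := h.reg (r * z' - y' * n) (sub_mem (Ideal.mul_mem_left _ _ hz') (Ideal.mul_mem_left _ _ hn))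
      (y' * p - r * a) (sub_mem (Ideal.mul_mem_left _ _ hp) (Ideal.mul_mem_left _ _ ha))
      (by linear_combination y' * hrz - r * he)
    exact mem_pair_mul.2 ⟨v, hv, n, hn, by linear_combination hv'⟩
  · obtain ⟨c, hc, b, hb, rfl⟩ := mem_pair_mul.1 hz''
    obtain ⟨v, hv, hv'⟩ := h'.reg (z - y * b) (sub_mem hz.1 (Ideal.mul_mem_left _ _ hb)) (a + y * c)
      (add_mem ha (Ideal.mul_mem_left _ _ hc)) (by linear_combination he)
    exact mem_pair_mul.2 ⟨v, hv, b, hb, by linear_combination hv'⟩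

theorem covBy_change {x y y' : T} (h : RegPair M x y) (h' : RegPair M x y')
    (hc : Ideal.span {x, y} * M ⋖ soc (Ideal.span {x, y}) M) :
    Ideal.span {x, y'} * M ⋖ soc (Ideal.span {x, y'}) M := by
  rw [covBy_ideal_iff (mul_le_soc _ _)] at hc ⊢
  obtain ⟨⟨z, hz, hzJ⟩, hgen⟩ := hc
  obtain ⟨z', hz', -, hzz⟩ := soc_transfer h h' hz
  refine ⟨⟨z', hz', fun hh => hzJ (hzz hh)⟩, fun w' hw' hw'J => ?_⟩
  obtain ⟨w, hw, ⟨a, ha, hwa⟩, hww⟩ := soc_transfer h' h hw'
  have hwJ : w ∉ Ideal.span {x, y} * M := fun hh => hw'J (hww hh)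
  intro t' ht'
  obtain ⟨t, ht, ⟨a₂, ha₂, hta⟩, -⟩ := soc_transfer h' h ht'
  obtain ⟨j, hj, v, hv, htj⟩ := Submodule.mem_sup.1 (hgen w hw hwJ ht)
  obtain ⟨c, rfl⟩ := Ideal.mem_span_singleton'.1 hv
  obtain ⟨p, hp, b, hb, rfl⟩ := mem_pair_mul.1 hj
  obtain ⟨q, hq, hq'⟩ := h.reg (t' - c * w' - y' * b)
    (sub_mem (sub_mem ht'.1 (Ideal.mul_mem_left _ _ hw'.1)) (Ideal.mul_mem_left _ _ hb))
    (a₂ + y' * p - c * a) (sub_mem (add_mem ha₂ (Ideal.mul_mem_left _ _ hp)) (Ideal.mul_mem_left _ _ ha))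
    (by linear_combination hta - c * hwa - y' * htj)
  rw [show t' = (x * q + y' * b) + c * w' by linear_combination hq']
  exact add_mem (Submodule.mem_sup_left (mem_pair_mul.2 ⟨q, hq, b, hb, rfl⟩))
    (Submodule.mem_sup_right (Ideal.mem_span_singleton'.2 ⟨c, rfl⟩))

end Domain

section Exists

variable [IsDomain T] [IsNoetherianRing T] {M : Ideal T}

theorem exists_common_pair (hdim : ringKrullDim T = 2) (hdep : Dep2 M) {x x' : T} (hx : x ∈ maximalIdeal T)
    (hx0 : x ≠ 0) (hx' : x' ∈ maximalIdeal T) (hx0' : x' ≠ 0) :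
    ∃ w, RegPair M x w ∧ RegPair M x' w := by
  classical
  set 𝔪 := maximalIdeal T
  have hm : 𝔪.height = 2 := by
    have := IsLocalRing.maximalIdeal_height_eq_ringKrullDim (R := T)
    rw [hdim] at this
    exact WithBot.coe_eq_coe.1 this
  let N : T → Submodule T M := fun a => Submodule.comap M.subtype (Ideal.span {a} * M)
  let S : T → Set (Ideal T) := fun a => associatedPrimes T (M ⧸ N a) ∪ (Ideal.span {a}).minimalPrimes
  have hfin : ∀ a, (S a).Finite := fun a =>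
    (associatedPrimes.finite T _).union (Ideal.finite_minimalPrimes_of_isNoetherianRing T _)
  have hprime : ∀ a, ∀ P ∈ S a, P.IsPrime := fun a P hP =>
    hP.elim (fun h => h.isPrime) (fun h => h.isPrime)
  have hnm : ∀ a ∈ 𝔪, a ≠ 0 → ∀ P ∈ S a, ¬ 𝔪 ≤ P := by
    intro a ha ha0 P hP hle
    haveI := hprime a P hP
    have hPm : P = 𝔪 := le_antisymm (le_maximalIdeal Ideal.IsPrime.ne_top') hle
    rcases hP with hP | hP
    · obtain ⟨-, c, hc⟩ := (isAssociatedPrime_iff).1 hP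
      obtain ⟨⟨z, hz⟩, rfl⟩ := Submodule.Quotient.mk_surjective (N a) c
      obtain ⟨v, hv, hzv⟩ := hdep a ha ha0 z hz fun r hr => by
        have h1 : r ∈ P := hle hr
        rw [hc, Submodule.mem_colon_singleton, Submodule.mem_bot, ← Submodule.Quotient.mk_smul,
          Submodule.Quotient.mk_eq_zero] at h1
        obtain ⟨w, hw, he⟩ := Ideal.mem_span_singleton_mul.1 (show r * z ∈ Ideal.span {a} * M from h1)
        exact ⟨w, hw, he.symm⟩
      refine (hprime a P (Or.inl hP)).ne_top (hc ▸ (Ideal.eq_top_iff_one _).2 ?_)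
      rw [Submodule.mem_colon_singleton, one_smul, Submodule.mem_bot, Submodule.Quotient.mk_eq_zero]
      show z ∈ Ideal.span {a} * M
      exact Ideal.mem_span_singleton_mul.2 ⟨v, hv, hzv.symm⟩
    · have := Ideal.height_le_one_of_isPrincipal_of_mem_minimalPrimes (Ideal.span {a}) P hP
      rw [hPm, hm] at this
      exact absurd this (by decide)
  have reg_of : ∀ a, ∀ {w : T}, (∀ P ∈ S a, w ∉ P) → ∀ {z : T}, z ∈ M → ∀ {v : T}, v ∈ M → w * z = a * v →
      ∃ u ∈ M, z = a * u := by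
    intro a w hw z hz v hv he
    by_contra hc
    have hne : (Submodule.Quotient.mk ⟨z, hz⟩ : M ⧸ N a) ≠ 0 := fun h0 => by
      obtain ⟨u, hu, hu'⟩ := Ideal.mem_span_singleton_mul.1
        (show z ∈ Ideal.span {a} * M from ((Submodule.Quotient.mk_eq_zero (N a)).1 h0 :))
      exact hc ⟨u, hu, hu'.symm⟩
    obtain ⟨P, hP, hcol⟩ := exists_le_isAssociatedPrime_of_isNoetherianRing T _ hne
    refine hw P (Or.inl hP) (hcol ?_)
    rw [Submodule.mem_colon_singleton, Submodule.mem_bot, ← Submodule.Quotient.mk_smul, Submodule.Quotient.mk_eq_zero]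
    show w * z ∈ Ideal.span {a} * M
    exact Ideal.mem_span_singleton_mul.2 ⟨v, hv, he.symm⟩
  have rad_of : ∀ a, a ≠ 0 → ∀ {w : T}, (∀ P ∈ S a, w ∉ P) → ∃ n, 𝔪 ^ n ≤ Ideal.span {a, w} := by
    intro a ha0 w hw
    refine Ideal.exists_pow_le_of_le_radical_of_fg ?_ (Ideal.fg_of_isNoetherianRing _)
    rw [Ideal.radical_eq_sInf]
    refine le_sInf fun Q ⟨hQ, hQp⟩ => ?_
    haveI := hQp
    obtain ⟨P, hP, hPQ⟩ := Ideal.exists_minimalPrimes_le
      ((Ideal.span_mono (Set.singleton_subset_iff.2 (Set.mem_insert a _))).trans hQ)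
    haveI := hP.isPrime
    have hlt : P < Q := lt_of_le_of_ne hPQ fun e => hw P (Or.inr hP)
      (e ▸ hQ (Ideal.subset_span (Set.mem_insert_of_mem a rfl)))
    have hP0 : (⊥ : Ideal T) < P := bot_lt_iff_ne_bot.2 fun e => ha0 (by
      have := hP.1.2 (Ideal.mem_span_singleton_self a)
      rwa [e, Ideal.mem_bot] at this)
    by_contra hne
    have hQm : Q < 𝔪 := lt_of_le_of_ne (le_maximalIdeal hQp.ne_top) fun e => hne e.ge
    have e1 := Order.add_one_le_of_lt (Ideal.height_strict_mono_of_isPrime hP0)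
    have e2 := Order.add_one_le_of_lt (lt_of_le_of_lt e1 (Ideal.height_strict_mono_of_isPrime hlt))
    have e3 := Order.add_one_le_of_lt (lt_of_le_of_lt e2 (Ideal.height_strict_mono_of_isPrime hQm))
    rw [Ideal.height_bot, hm] at e3
    exact absurd e3 (by decide)
  obtain ⟨w, hw, hwS⟩ : ∃ w ∈ 𝔪, ∀ P ∈ S x ∪ S x', w ∉ P := by
    by_contra hc
    push Not at hc
    let F := ((hfin x).union (hfin x')).toFinset
    have hsub : (𝔪 : Set T) ⊆ ⋃ P ∈ (F : Set (Ideal T)), (P : Set T) := fun r hr => by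
      obtain ⟨P, hP, hrP⟩ := hc r hr
      exact Set.mem_biUnion (by simpa [F] using hP) hrP
    obtain ⟨P, hP, hle⟩ := (Ideal.subset_union_prime (f := id) ⊥ ⊥ fun P hP _ _ => by
      rcases (show P ∈ S x ∪ S x' by simpa [F] using hP) with h | h
      exacts [hprime x P h, hprime x' P h]).1 hsub
    rcases (show P ∈ S x ∪ S x' by simpa [F] using hP) with h | h
    exacts [hnm x hx hx0 P h hle, hnm x' hx' hx0' P h hle]
  refine ⟨w, ?_, ?_⟩
  all_goals
    refine ⟨by assumption, hw, by assumption, fun z hz v hv he => ?_, ?_⟩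
  · exact reg_of x (fun P hP => hwS P (Or.inl hP)) hz hv he
  · exact rad_of x hx0 (fun P hP => hwS P (Or.inl hP))
  · exact reg_of x' (fun P hP => hwS P (Or.inr hP)) hz hv he
  · exact rad_of x' hx0' (fun P hP => hwS P (Or.inr hP))

/-- One system of parameters suffices. -/
theorem Can.of_pair (hdim : ringKrullDim T = 2) (hM : M ≠ ⊥) {x y : T} (h : RegPair M x y)
    (hc : Ideal.span {x, y} * M ⋖ soc (Ideal.span {x, y}) M) : Can M := by
  refine ⟨hM, h.dep2, fun x' y' h' => ?_⟩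
  obtain ⟨w, hw, hw'⟩ := exists_common_pair hdim h.dep2 h.mem₁ h.ne₁ h'.mem₁ h'.ne₁
  have h1 := covBy_change h hw hc
  rw [Set.pair_comm] at h1
  have h2 := covBy_change (hw.symm hM) (hw'.symm hM) h1
  rw [Set.pair_comm] at h2
  exact covBy_change hw' h' h2

theorem exists_ne_zero_mem (hdim : ringKrullDim T = 2) : ∃ x ∈ maximalIdeal T, x ≠ 0 := by
  by_contra hc
  push Not at hc
  have hf : IsField T := isField_iff_maximalIdeal_eq.2 (le_bot_iff.1 fun x hx => (Submodule.mem_bot T).2 (hc x hx))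
  rw [ringKrullDim_eq_zero_of_isField hf] at hdim
  norm_num at hdim

theorem Can.exists_pair (hdim : ringKrullDim T = 2) (h : Can M) :
    ∃ x y, RegPair M x y ∧ Ideal.span {x, y} * M ⋖ soc (Ideal.span {x, y}) M := by
  obtain ⟨x, hx, hx0⟩ := exists_ne_zero_mem hdim
  obtain ⟨y, hy, -⟩ := exists_common_pair hdim h.dep hx hx0 hx hx0
  exact ⟨x, y, hy, h.socle x y hy⟩

/-- A normal two dimensional local domain has depth two. -/
theorem dep2_top [IsIntegrallyClosed T] (hdim : ringKrullDim T = 2) : Dep2 (⊤ : Ideal T) := by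
  intro a ha ha0 z _ hr
  choose w _ hw using hr
  by_cases hmem : ∀ r hr, w r hr ∈ maximalIdeal T
  · set K := FractionRing T
    have hK : algebraMap T K a ≠ 0 := (map_ne_zero_iff _ (IsFractionRing.injective T K)).2 ha0
    have hint : _root_.IsIntegral T (algebraMap T K z / algebraMap T K a) := by
      refine isIntegral_of_smul_mem_submodule (Submodule.map (Algebra.linearMap T K) (maximalIdeal T)) ?_
        (Submodule.FG.map _ (IsNoetherian.noetherian _)) _ ?_
      · rintro h0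
        have : Algebra.linearMap T K a ∈ (⊥ : Submodule T K) := h0 ▸ Submodule.mem_map_of_mem ha
        exact hK ((Submodule.mem_bot T).1 this)
      · rintro _ ⟨r, hr, rfl⟩
        refine ⟨w r hr, hmem r hr, ?_⟩
        rw [smul_eq_mul, Algebra.linearMap_apply, Algebra.linearMap_apply, div_mul_eq_mul_div, eq_div_iff hK,
          ← map_mul, ← map_mul, mul_comm z, hw r hr, mul_comm]
    obtain ⟨v, hv⟩ := IsIntegrallyClosed.isIntegral_iff.1 hint
    refine ⟨v, trivial, IsFractionRing.injective T K ?_⟩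
    rw [map_mul, hv, mul_div_cancel₀ _ hK]
  · push Not at hmem
    obtain ⟨r, hr, hu⟩ := hmem
    obtain ⟨u, hu⟩ : IsUnit (w r hr) := by
      by_contra h
      exact hu ((IsLocalRing.mem_maximalIdeal _).2 h)
    exfalso
    have hle : maximalIdeal T ≤ Ideal.span {r} := fun s hs => by
      refine Ideal.mem_span_singleton'.2 ⟨↑u⁻¹ * w s hs, mul_left_cancel₀ ha0 ?_⟩
      have e1 := hw s hs
      have e2 := hw r hr
      have h4 : a * (w s hs * r) = a * (s * u) := by rw [hu]; linear_combination s * e2 - r * e1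
      calc a * (↑u⁻¹ * w s hs * r) = (↑u⁻¹ : T) * (a * (w s hs * r)) := by ring
        _ = a * s := by rw [h4, show (↑u⁻¹ : T) * (a * (s * u)) = a * s * (↑u⁻¹ * u) by ring, Units.inv_mul, mul_one]
    obtain ⟨P, hP, -⟩ := Ideal.exists_minimalPrimes_le (J := maximalIdeal T) ((Ideal.span_singleton_le_iff_mem _).2 hr)
    have h1 := Ideal.height_le_one_of_isPrincipal_of_mem_minimalPrimes (Ideal.span {r}) P hP
    rw [show P = maximalIdeal T from le_antisymm (le_maximalIdeal hP.isPrime.ne_top) (hle.trans hP.1.2)] at h1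
    have h2 := IsLocalRing.maximalIdeal_height_eq_ringKrullDim (R := T)
    rw [hdim] at h2
    rw [WithBot.coe_eq_coe.1 h2] at h1
    exact absurd h1 (by decide)

/-- A principal canonical ideal makes the ring itself canonical. -/
theorem Can.top_of_principal (hdim : ringKrullDim T = 2) (h : Can M) {g : T} (hg : M = Ideal.span {g}) :
    Can (⊤ : Ideal T) := by
  have hg0 : g ≠ 0 := by rintro rfl; exact h.ne_bot (by simp [hg])
  obtain ⟨x, y, hp, hc⟩ := h.exists_pair hdim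
  have hmul : ∀ {t : T}, g * t ∈ Ideal.span {x, y} * M ↔ t ∈ Ideal.span {x, y} := by
    intro t
    rw [hg, mul_comm (Ideal.span {x, y}), Ideal.mem_span_singleton_mul]
    exact ⟨fun ⟨s, hs, he⟩ => mul_left_cancel₀ hg0 he ▸ hs, fun ht => ⟨t, ht, rfl⟩⟩
  have hsoc : ∀ {t : T}, g * t ∈ soc (Ideal.span {x, y}) M ↔ t ∈ soc (Ideal.span {x, y}) ⊤ := by
    intro t
    simp only [mem_soc, Ideal.mul_top, mul_left_comm _ g, hmul]
    simp [hg, Ideal.mem_span_singleton', mul_comm g]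
  have hmemM : ∀ {t : T}, t ∈ M → ∃ s, t = g * s := fun ht => by
    rw [hg, Ideal.mem_span_singleton'] at ht
    obtain ⟨s, rfl⟩ := ht
    exact ⟨s, mul_comm _ _⟩
  refine Can.of_pair hdim (by simp) ⟨hp.mem₁, hp.mem₂, hp.ne₁, fun z _ v _ he => ?_, hp.rad⟩ ?_
  · obtain ⟨u, hu, he'⟩ := hp.reg (g * z) (hg ▸ Ideal.mul_mem_right _ _ (Ideal.mem_span_singleton_self g)) (g * v)
      (hg ▸ Ideal.mul_mem_right _ _ (Ideal.mem_span_singleton_self g)) (by linear_combination g * he)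
    obtain ⟨s, rfl⟩ := hmemM hu
    exact ⟨s, trivial, mul_left_cancel₀ hg0 (by rw [he']; ring)⟩
  · rw [covBy_ideal_iff (mul_le_soc _ _)] at hc ⊢
    obtain ⟨⟨z, hz, hzJ⟩, hgen⟩ := hc
    obtain ⟨z', rfl⟩ := hmemM hz.1
    refine ⟨⟨z', hsoc.1 hz, fun h' => hzJ (hmul.2 (by simpa using h'))⟩, fun s hs hsJ t ht => ?_⟩
    have h1 := hgen (g * s) (hsoc.2 hs) (fun h' => hsJ (by simpa using hmul.1 h')) (hsoc.2 ht)
    obtain ⟨j, hj, v, hv, he⟩ := Submodule.mem_sup.1 h1
    obtain ⟨c, rfl⟩ := Ideal.mem_span_singleton'.1 hv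
    obtain ⟨j', rfl⟩ := hmemM (Ideal.mul_le_right hj)
    rw [show t = j' + c * s from mul_left_cancel₀ hg0 (by linear_combination -he)]
    exact add_mem (Submodule.mem_sup_left (by simpa using hmul.1 hj))
      (Submodule.mem_sup_right (Ideal.mem_span_singleton'.2 ⟨c, rfl⟩))

end Exists

end Groth.L05.PtChain
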