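import Groth.Agent.L13.BlowUp.ReesChart
import Mathlib.RingTheory.ReesAlgebra

/-! Monomials of the Rees algebra and the adic filtration. -/

set_option autoImplicit false
set_option linter.style.haveILetI false

universe u

noncomputable section

namespace Groth.L05.PtChain

open Groth.L13.BU

variable {T : Type u} [CommRing T] (I : Ideal T)

theorem mem_pow_one_of {a : T} (ha : a ∈ I) : a ∈ I ^ 1 := by rwa [pow_one]

/-- The ideal generated by the degree one part. -/
def deg1 : Ideal (reesAlgebra I) := Ideal.span (Set.range fun a : I => mon I 1 a.1 (mem_pow_one_of I a.2))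

/-- The elements of `I` whose degree one monomial lies in an ideal. -/
def linPart (p : Ideal (reesAlgebra I)) : Submodule T I where
  carrier := {a | mon I 1 a.1 (mem_pow_one_of I a.2) ∈ p}
  zero_mem' := by
    show _ ∈ p
    convert p.zero_mem using 1
    exact Subtype.ext (map_zero (Polynomial.monomial 1))
  add_mem' := fun {a b} ha hb => by
    show _ ∈ p
    convert p.add_mem ha hb using 1
    exact Subtype.ext (map_add (Polynomial.monomial 1) _ _)
  smul_mem' := fun r a ha => by
    show _ ∈ p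
    convert p.mul_mem_left (algebraMap T (reesAlgebra I) r) ha using 1
    exact Subtype.ext (Polynomial.C_mul_monomial).symm

theorem mem_linPart {p : Ideal (reesAlgebra I)} {a : I} :
    a ∈ linPart I p ↔ mon I 1 a.1 (mem_pow_one_of I a.2) ∈ p := Iff.rfl

theorem linPart_ne_top {p : Ideal (reesAlgebra I)} (hp : ¬ deg1 I ≤ p) : linPart I p ≠ ⊤ := fun htop =>
  hp (Ideal.span_le.2 (by
    rintro _ ⟨a, rfl⟩
    exact (htop ▸ Submodule.mem_top : a ∈ linPart I p)))

theorem mon_add {n : ℕ} {a b : T} (ha : a ∈ I ^ n) (hb : b ∈ I ^ n) (h : a + b ∈ I ^ n) :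
    mon I n (a + b) h = mon I n a ha + mon I n b hb :=
  Subtype.ext (map_add (Polynomial.monomial n) _ _)

theorem mon_mem_deg1_pow (n : ℕ) (z : T) (hz : z ∈ I ^ n) : mon I n z hz ∈ deg1 I ^ n := by
  induction n generalizing z with
  | zero => rw [pow_zero, Ideal.one_eq_top]; trivial
  | succ n ih =>
    have hz' := hz
    rw [pow_succ] at hz'
    induction hz' using Submodule.mul_induction_on' with
    | mem_mul_mem a ha b hb =>
      have h1 : mon I (n + 1) (a * b) hz = mon I n a ha * mon I 1 b (mem_pow_one_of I hb) :=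
        (mon_mul I n 1 a b ha (mem_pow_one_of I hb)).symm
      rw [h1, pow_succ]
      exact Ideal.mul_mem_mul (ih a ha) (Ideal.subset_span ⟨⟨b, hb⟩, rfl⟩)
    | add a ha b hb iha ihb =>
      have ha' : a ∈ I ^ (n + 1) := by rw [pow_succ]; exact ha
      have hb' : b ∈ I ^ (n + 1) := by rw [pow_succ]; exact hb
      rw [mon_add I ha' hb' hz]
      exact add_mem (iha ha') (ihb hb')

theorem mon_mem_map {n : ℕ} {z : T} (hz : z ∈ I ^ n) (hz1 : z ∈ I ^ (n + 1)) :
    mon I n z hz ∈ I.map (algebraMap T (reesAlgebra I)) := by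
  rw [pow_succ'] at hz1
  induction hz1 using Submodule.mul_induction_on' with
  | mem_mul_mem a ha b hb =>
    have h1 : mon I n (a * b) hz = algebraMap T (reesAlgebra I) a * mon I n b hb :=
      Subtype.ext (Polynomial.C_mul_monomial).symm
    rw [h1]
    exact Ideal.mul_mem_right _ _ (Ideal.mem_map_of_mem _ ha)
  | add a ha b hb iha ihb =>
    have ha' : a ∈ I ^ n := Ideal.mul_le_right ha
    have hb' : b ∈ I ^ n := Ideal.mul_le_right hb
    rw [mon_add I ha' hb' hz]
    exact add_mem (iha ha') (ihb hb')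

theorem coeff_mem_of_mem_map {w : reesAlgebra I} (hw : w ∈ I.map (algebraMap T (reesAlgebra I))) (n : ℕ) :
    (w : Polynomial T).coeff n ∈ I ^ (n + 1) := by
  induction hw using Submodule.span_induction generalizing n with
  | mem w hw =>
    obtain ⟨r, hr, rfl⟩ := hw
    show (Polynomial.C r).coeff n ∈ _
    rcases n with _ | n
    · simpa using hr
    · simp
  | zero => simp
  | add a b _ _ ha hb => simpa using add_mem (ha n) (hb n)
  | smul r a _ ha =>
    show ((r : Polynomial T) * (a : Polynomial T)).coeff n ∈ _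
    rw [Polynomial.coeff_mul]
    refine Ideal.sum_mem _ fun ij hij => ?_
    rw [Finset.HasAntidiagonal.mem_antidiagonal] at hij
    rw [show n + 1 = ij.1 + (ij.2 + 1) by omega, pow_add]
    exact Ideal.mul_mem_mul (r.2 ij.1) (ha ij.2)

theorem mon_mem_map_sup {x : T} (hx : x ∈ I) {n : ℕ} {z : T} (hz : z ∈ I ^ (n + 1))
    (hz1 : z ∈ Ideal.span {x} * I ^ n ⊔ I ^ (n + 2)) :
    mon I (n + 1) z hz ∈ I.map (algebraMap T (reesAlgebra I)) ⊔ Ideal.span {mon I 1 x (mem_pow_one_of I hx)} := by
  obtain ⟨a, ha, b, hb, rfl⟩ := Submodule.mem_sup.1 hz1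
  obtain ⟨l, hl, rfl⟩ := Ideal.mem_span_singleton_mul.1 ha
  have hb' : b ∈ I ^ (n + 1) := Ideal.pow_le_pow_right (by omega) hb
  have h1 : mon I (n + 1) (x * l + b) hz =
      mon I n l hl * mon I 1 x (mem_pow_one_of I hx) + mon I (n + 1) b hb' := Subtype.ext (by
    show Polynomial.monomial (n + 1) (x * l + b) =
      Polynomial.monomial n l * Polynomial.monomial 1 x + Polynomial.monomial (n + 1) b
    rw [Polynomial.monomial_mul_monomial, map_add, mul_comm l])
  rw [h1]
  exact add_mem (Submodule.mem_sup_right (Ideal.mul_mem_left _ _ (Ideal.mem_span_singleton_self _)))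
    (Submodule.mem_sup_left (mon_mem_map I hb' hb))

theorem coeff_mem_of_mem_map_sup {x : T} (hx : x ∈ I) {w : reesAlgebra I}
    (hw : w ∈ I.map (algebraMap T (reesAlgebra I)) ⊔ Ideal.span {mon I 1 x (mem_pow_one_of I hx)}) (n : ℕ) :
    (w : Polynomial T).coeff (n + 1) ∈ Ideal.span {x} * I ^ n ⊔ I ^ (n + 2) := by
  obtain ⟨a, ha, b, hb, rfl⟩ := Submodule.mem_sup.1 hw
  obtain ⟨r, rfl⟩ := Ideal.mem_span_singleton'.1 hb
  show ((a : Polynomial T) + (r : Polynomial T) * Polynomial.monomial 1 x).coeff (n + 1) ∈ _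
  rw [Polynomial.coeff_add, Polynomial.coeff_mul_monomial]
  refine add_mem (Submodule.mem_sup_right (coeff_mem_of_mem_map I ha (n + 1))) (Submodule.mem_sup_left ?_)
  rw [mul_comm (Ideal.span {x})]
  exact Ideal.mul_mem_mul (r.2 n) (Ideal.mem_span_singleton_self _)

theorem coeff_mon {n : ℕ} {z : T} (hz : z ∈ I ^ n) : (mon I n z hz : Polynomial T).coeff n = z := by
  show (Polynomial.monomial n z).coeff n = z
  rw [Polynomial.coeff_monomial, if_pos rfl]

end Groth.L05.PtChain
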