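import Groth.Agent.L05.PtChain.Can.Exist
import Groth.Agent.L05.PtChain.Can.Ext
import Groth.Agent.L05.PtChain.Can.ReesFilt
import Groth.Agent.L21.Mult.Basic
import Mathlib.RingTheory.Ideal.AssociatedPrime.Localization

/-! Minimal reductions of the maximal ideal for a rational Hilbert function. -/

set_option autoImplicit false
set_option linter.style.haveILetI false
set_option backward.isDefEq.respectTransparency false
set_option backward.isDefEq.respectTransparency.types false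
set_option maxHeartbeats 1000000

universe u

noncomputable section

namespace Groth.L05.PtChain

open IsLocalRing Groth.L13.BU

/-- An element outside the associated primes not containing `P` is injective deep in the `P`-filtration. -/
theorem exists_injective_deep {R Q : Type u} [CommRing R] [IsNoetherianRing R] [AddCommGroup Q] [Module R Q]
    [Module.Finite R Q] (P : Ideal R) (x : R) (h : ∀ p ∈ associatedPrimes R Q, x ∈ p → P ≤ p) :
    ∃ c, ∀ z ∈ (P ^ c • ⊤ : Submodule R Q), x • z = 0 → z = 0 := by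
  let K : Submodule R Q := LinearMap.ker (LinearMap.lsmul R Q x)
  haveI : Module.Finite R K := Module.Finite.of_fg (IsNoetherian.noetherian K)
  obtain ⟨N, hN⟩ : ∃ N, P ^ N ≤ Module.annihilator R K := by
    refine Ideal.exists_pow_le_of_le_radical_of_fg ?_ (IsNoetherian.noetherian P)
    rw [← Ideal.sInf_minimalPrimes]
    refine le_sInf fun p hp => h p (associatedPrimes.subset_of_injective K.injective_subtype
      (Module.associatedPrimes.minimalPrimes_annihilator_subset_associatedPrimes R K hp)) (hp.1.2 ?_)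
    rw [Module.mem_annihilator]
    exact fun k => Subtype.ext k.2
  obtain ⟨k, hk⟩ := Ideal.exists_pow_inf_eq_pow_smul P K
  refine ⟨k + N, fun z hz hxz => ?_⟩
  have h1 : z ∈ (P ^ (k + N - k) • (P ^ k • ⊤ ⊓ K) : Submodule R Q) :=
    hk (k + N) (Nat.le_add_right _ _) ▸ ⟨hz, hxz⟩
  have h2 : z ∈ (P ^ N • K : Submodule R Q) :=
    (Submodule.smul_mono (Ideal.pow_le_pow_right (by omega)) inf_le_right) h1
  have h3 : (P ^ N • K : Submodule R Q) ≤ ⊥ := Submodule.smul_le.2 fun r hr w hw => by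
    rw [Submodule.mem_bot]
    exact congrArg Subtype.val (Module.mem_annihilator.1 (hN hr) ⟨w, hw⟩)
  exact (Submodule.mem_bot R).1 (h3 h2)

variable {T : Type u} [CommRing T] [IsLocalRing T] [IsNoetherianRing T]

/-- The colength of an ideal. -/
def D (K : Ideal T) : ℕ∞ := Module.length T (T ⧸ K)

theorem D_eq_add {K L : Ideal T} (h : K ≤ L) :
    D K = Module.length T (↥L ⧸ Submodule.comap L.subtype K) + D L := by
  refine Module.length_eq_add_of_exact (Submodule.mapQ _ K L.subtype le_rfl) (Submodule.factor h) ?_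
    (Submodule.factor_surjective h) ?_
  · rw [← LinearMap.ker_eq_bot, Submodule.mapQ, Submodule.ker_liftQ_eq_bot]
    intro z hz
    simpa [Ideal.Quotient.eq_zero_iff_mem] using hz
  · intro z
    obtain ⟨z, rfl⟩ := Submodule.Quotient.mk_surjective K z
    show Submodule.Quotient.mk z = 0 ↔ _
    rw [Submodule.Quotient.mk_eq_zero]
    constructor
    · exact fun hz => ⟨Submodule.Quotient.mk ⟨z, hz⟩, rfl⟩
    · rintro ⟨w, hw⟩
      obtain ⟨⟨w, hwL⟩, rfl⟩ := Submodule.Quotient.mk_surjective _ w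
      have h1 : w - z ∈ K := (Submodule.Quotient.eq K).1 hw
      rw [show z = w - (w - z) by ring]
      exact sub_mem hwL (h h1)

/-- Colengths under an injective multiplication. -/
theorem D_mul_add {K L K' : Ideal T} (hKL : K ≤ L) (y : T) (hK : ∀ z ∈ K, y * z ∈ K')
    (hinj : ∀ z ∈ L, y * z ∈ K' → z ∈ K) : D K' + D L = D K + D (Ideal.span {y} * L ⊔ K') := by
  have hle : K' ≤ Ideal.span {y} * L ⊔ K' := le_sup_right
  rw [D_eq_add hKL, D_eq_add hle]
  let μ : ↥L →ₗ[T] ↥(Ideal.span {y} * L ⊔ K') ⧸ Submodule.comap (Ideal.span {y} * L ⊔ K').subtype K' :=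
    (Submodule.mkQ _).comp (LinearMap.codRestrict _ ((LinearMap.mulLeft T y).comp L.subtype) fun z =>
      Submodule.mem_sup_left (Ideal.mul_mem_mul (Ideal.mem_span_singleton_self y) z.2))
  have hker : LinearMap.ker μ = Submodule.comap L.subtype K := by
    ext z
    rw [LinearMap.mem_ker]
    show Submodule.Quotient.mk _ = 0 ↔ _
    rw [Submodule.Quotient.mk_eq_zero]
    exact ⟨fun h => hinj z z.2 h, fun h => hK z h⟩
  have hsur : Function.Surjective μ := fun w => by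
    obtain ⟨⟨w, hw⟩, rfl⟩ := Submodule.Quotient.mk_surjective _ w
    obtain ⟨a, ha, b, hb, rfl⟩ := Submodule.mem_sup.1 hw
    obtain ⟨l, hl, rfl⟩ := Ideal.mem_span_singleton_mul.1 ha
    refine ⟨⟨l, hl⟩, ?_⟩
    show Submodule.Quotient.mk _ = Submodule.Quotient.mk _
    rw [Submodule.Quotient.eq]
    show y * l - (y * l + b) ∈ K'
    simpa using hb
  rw [← (((Submodule.quotEquivOfEq _ _ hker.symm).trans (μ.quotKerEquivOfSurjective hsur))).length_eq]
  ac_rfl

theorem D_le_add_one {K : Ideal T} {z : T} (hz : ∀ r ∈ maximalIdeal T, r * z ∈ K) :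
    D K ≤ D (K ⊔ Ideal.span {z}) + 1 := by
  rw [D_eq_add (show K ≤ K ⊔ Ideal.span {z} from le_sup_left), add_comm]
  refine add_le_add le_rfl ?_
  let g : T →ₗ[T] ↥(K ⊔ Ideal.span {z}) ⧸ Submodule.comap (K ⊔ Ideal.span {z}).subtype K :=
    (Submodule.mkQ _).comp (LinearMap.codRestrict _ (LinearMap.mulRight T z) fun r =>
      Submodule.mem_sup_right (Ideal.mul_mem_left _ r (Ideal.mem_span_singleton_self z)))
  have hg : maximalIdeal T ≤ LinearMap.ker g := fun r hr => by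
    rw [LinearMap.mem_ker]
    exact (Submodule.Quotient.mk_eq_zero _).2 (hz r hr)
  let g' := Submodule.liftQ (maximalIdeal T) g hg
  have hs : Function.Surjective g' := fun w => by
    obtain ⟨⟨w, hw⟩, rfl⟩ := Submodule.Quotient.mk_surjective _ w
    obtain ⟨a, ha, b, hb, rfl⟩ := Submodule.mem_sup.1 hw
    obtain ⟨c, rfl⟩ := Ideal.mem_span_singleton'.1 hb
    refine ⟨Submodule.Quotient.mk c, ?_⟩
    show Submodule.Quotient.mk _ = Submodule.Quotient.mk _
    rw [Submodule.Quotient.eq]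
    show c * z - (a + c * z) ∈ K
    simpa using ha
  haveI : IsSimpleModule T (T ⧸ maximalIdeal T) :=
    isSimpleModule_iff_isCoatom.2 (maximalIdeal.isMaximal T).out
  exact (Module.length_le_of_surjective g' hs).trans (Module.length_eq_one T _).le

theorem eq_of_D_eq {K L : Ideal T} (h : K ≤ L) (hf : D L ≠ ⊤) (he : D K = D L) : K = L := by
  rw [D_eq_add h] at he
  have h0 : Module.length T (↥L ⧸ Submodule.comap L.subtype K) = 0 :=
    ENat.add_left_injective_of_ne_top hf (by simpa using he)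
  rw [Module.length_eq_zero_iff, Submodule.Quotient.subsingleton_iff] at h0
  refine le_antisymm h fun z hz => ?_
  have : (⟨z, hz⟩ : L) ∈ Submodule.comap L.subtype K := h0 ▸ trivial
  exact this

/-- The values of the linear Hilbert function. -/
def hval (μ r : ℕ) : ℕ := ∑ i ∈ Finset.range r, (i * μ + 1)

theorem hval_succ (μ r : ℕ) : hval μ (r + 1) = hval μ r + (r * μ + 1) := Finset.sum_range_succ _ _

theorem HLin.D_pow {μ : ℕ} (h : HLin T μ) (r : ℕ) : D (maximalIdeal T ^ r) = (hval μ r : ℕ∞) := h r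

/-- A choice of two linear forms generating a reduction of the maximal ideal, avoiding prescribed subspaces. -/
theorem exists_generic_pair [Infinite (ResidueField T)] {ι : Type u} (F : Finset ι)
    (W : ι → Submodule T (maximalIdeal T)) (hW : ∀ i ∈ F, W i ≠ ⊤) :
    ∃ x y : T, ∃ hx : x ∈ maximalIdeal T, y ∈ maximalIdeal T ∧ (∀ i ∈ F, (⟨x, hx⟩ : maximalIdeal T) ∉ W i) ∧
      ∃ c, (∀ n ≥ c, ∀ z ∈ maximalIdeal T ^ n, x * z ∈ maximalIdeal T ^ (n + 2) → z ∈ maximalIdeal T ^ (n + 1)) ∧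
        ∀ n ≥ c, ∀ z ∈ maximalIdeal T ^ (n + 1),
          y * z ∈ Ideal.span {x} * maximalIdeal T ^ (n + 1) ⊔ maximalIdeal T ^ (n + 3) →
          z ∈ Ideal.span {x} * maximalIdeal T ^ n ⊔ maximalIdeal T ^ (n + 2) := by
  classical
  haveI : IsNoetherianRing (reesAlgebra (maximalIdeal T)) := by
    haveI : Algebra.FiniteType T (reesAlgebra (maximalIdeal T)) :=
      (Subalgebra.fg_iff_finiteType _).1 (reesAlgebra.fg (Ideal.fg_of_isNoetherianRing (maximalIdeal T)))
    exact Algebra.FiniteType.isNoetherianRing T _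
  have hchoice : ∀ (I : Ideal (reesAlgebra (maximalIdeal T))) (G : Finset ι), G ⊆ F →
      ∃ x : maximalIdeal T, (∀ i ∈ G, x ∉ W i) ∧ ∃ c, ∀ z ∈ deg1 (maximalIdeal T) ^ c,
        mon (maximalIdeal T) 1 x.1 (mem_pow_one_of _ x.2) * z ∈ I → z ∈ I := by
    intro I G hG
    let A := ((associatedPrimes.finite (reesAlgebra (maximalIdeal T)) (reesAlgebra (maximalIdeal T) ⧸ I)).subset
      (Set.sep_subset _ (fun p => ¬ deg1 (maximalIdeal T) ≤ p))).toFinset
    obtain ⟨x, hx⟩ := Groth.L21.Mult.exists_forall_notMem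
      ((G.image Sum.inl) ∪ (A.image Sum.inr)) (Sum.elim W (linPart (maximalIdeal T))) fun j hj => by
        simp only [Finset.mem_union, Finset.mem_image] at hj
        rcases hj with ⟨i, hi, rfl⟩ | ⟨p, hp, rfl⟩
        exacts [hW i (hG hi), linPart_ne_top _ ((Set.Finite.mem_toFinset _).1 hp).2]
    refine ⟨x, fun i hi => hx (Sum.inl i) (Finset.mem_union_left _ (Finset.mem_image_of_mem _ hi)), ?_⟩
    obtain ⟨c, hc⟩ := exists_injective_deep (deg1 (maximalIdeal T))
      (mon (maximalIdeal T) 1 x.1 (mem_pow_one_of _ x.2)) (Q := reesAlgebra (maximalIdeal T) ⧸ I)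
      fun p hp hxp => by
        by_contra hP
        exact hx (Sum.inr p) (Finset.mem_union_right _ (Finset.mem_image_of_mem _
          ((Set.Finite.mem_toFinset _).2 ⟨hp, hP⟩))) hxp
    refine ⟨c, fun z hz hxz => (Submodule.Quotient.mk_eq_zero I).1
      (hc (Submodule.Quotient.mk z) ?_ ?_)⟩
    · rw [show z = z • (1 : reesAlgebra (maximalIdeal T)) from (mul_one z).symm, Submodule.Quotient.mk_smul]
      exact Submodule.smul_mem_smul hz trivial
    · rw [← Submodule.Quotient.mk_smul, Submodule.Quotient.mk_eq_zero]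
      exact hxz
  obtain ⟨x, hxW, c₁, hc₁⟩ := hchoice ((maximalIdeal T).map (algebraMap T _)) F subset_rfl
  obtain ⟨y, -, c₂, hc₂⟩ := hchoice ((maximalIdeal T).map (algebraMap T _) ⊔
    Ideal.span {mon (maximalIdeal T) 1 x.1 (mem_pow_one_of _ x.2)}) ∅ (by simp)
  refine ⟨x.1, y.1, x.2, y.2, hxW, max c₁ c₂, fun n hn z hz hxz => ?_, fun n hn z hz hyz => ?_⟩
  · have hz1 : x.1 * z ∈ maximalIdeal T ^ (1 + n) := by rw [pow_add, pow_one]; exact Ideal.mul_mem_mul x.2 hz
    have h1 := hc₁ (mon (maximalIdeal T) n z hz)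
      (Ideal.pow_le_pow_right (le_trans (le_max_left _ _) hn) (mon_mem_deg1_pow _ n z hz)) (by
      rw [mon_mul (maximalIdeal T) 1 n]
      exact mon_mem_map _ hz1 (Ideal.pow_le_pow_right (by omega) hxz))
    have h2 := coeff_mem_of_mem_map _ h1 n
    rwa [coeff_mon] at h2
  · have hz1 : y.1 * z ∈ maximalIdeal T ^ (n + 1 + 1) := by rw [pow_succ']; exact Ideal.mul_mem_mul y.2 hz
    have h1 := hc₂ (mon (maximalIdeal T) (n + 1) z hz)
      (Ideal.pow_le_pow_right (le_trans (le_trans (le_max_right _ _) hn) (Nat.le_succ n))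
        (mon_mem_deg1_pow _ _ z hz)) (by
      have h3 : mon (maximalIdeal T) 1 y.1 (mem_pow_one_of _ y.2) * mon (maximalIdeal T) (n + 1) z hz =
          mon (maximalIdeal T) (n + 1 + 1) (y.1 * z) hz1 :=
        Subtype.ext (by
          show Polynomial.monomial 1 y.1 * Polynomial.monomial (n + 1) z = Polynomial.monomial (n + 1 + 1) (y.1 * z)
          rw [Polynomial.monomial_mul_monomial, show 1 + (n + 1) = n + 1 + 1 by omega])
      rw [h3]
      exact mon_mem_map_sup _ x.2 hz1 hyz)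
    have h2 := coeff_mem_of_mem_map_sup _ x.2 h1 n
    rwa [coeff_mon] at h2

local notation "𝔪" => maximalIdeal T

/-- Minimal reductions with `m² = (x, y) m`. -/
theorem exists_reduction [IsDomain T] [IsIntegrallyClosed T] [Infinite (ResidueField T)] (hdim : ringKrullDim T = 2)
    {μ : ℕ} (h : HLin T μ) (hμ : 2 ≤ μ) {ι : Type u} (F : Finset ι) (W : ι → Submodule T (maximalIdeal T))
    (hW : ∀ i ∈ F, W i ≠ ⊤) :
    ∃ x y : T, ∃ hx : x ∈ maximalIdeal T, (∀ i ∈ F, (⟨x, hx⟩ : maximalIdeal T) ∉ W i) ∧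
      RegPair (⊤ : Ideal T) x y ∧ maximalIdeal T ^ 2 ≤ Ideal.span {x, y} * maximalIdeal T := by
  classical
  obtain ⟨x, y, hx, hy, hxW, c, hcx, hcy⟩ := exists_generic_pair F W hW
  have hfin : ∀ {K : Ideal T} {r : ℕ}, 𝔪 ^ r ≤ K → D K ≠ ⊤ := fun {K r} hK => ne_top_of_le_ne_top
    (ne_of_eq_of_ne (h.D_pow r) (ENat.natCast_ne_top _)) (by rw [D_eq_add hK]; exact le_add_self)
  have hxm : ∀ n, Ideal.span {x} * 𝔪 ^ n ≤ 𝔪 ^ (n + 1) := fun n => by
    rw [pow_succ']; exact Ideal.mul_mono_left ((Ideal.span_singleton_le_iff_mem _).2 hx)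
  have hym : ∀ n, Ideal.span {y} * 𝔪 ^ n ≤ 𝔪 ^ (n + 1) := fun n => by
    rw [pow_succ']; exact Ideal.mul_mono_left ((Ideal.span_singleton_le_iff_mem _).2 hy)
  -- the reduction
  have hred : ∀ n ≥ c, 𝔪 ^ (n + 2) ≤ Ideal.span {x, y} * 𝔪 ^ (n + 1) := by
    intro n hn
    have step : ∀ m ≥ c, D (Ideal.span {x} * 𝔪 ^ m ⊔ 𝔪 ^ (m + 2)) + (hval μ (m + 1) : ℕ∞) =
        ((hval μ (m + 2) + hval μ m : ℕ) : ℕ∞) := by
      intro m hm
      have h1 := D_mul_add (K := 𝔪 ^ (m + 1)) (L := 𝔪 ^ m) (K' := 𝔪 ^ (m + 2)) (Ideal.pow_le_pow_right (by omega)) x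
        (fun z hz => hxm (m + 1) (Ideal.mul_mem_mul (Ideal.mem_span_singleton_self _) hz)) (hcx m hm)
      rw [h.D_pow, h.D_pow, h.D_pow] at h1
      rw [Nat.cast_add, h1, add_comm]
    have e0 := step n hn
    have e1 := step (n + 1) (by omega)
    have hK'le : Ideal.span {x} * 𝔪 ^ (n + 1) ⊔ 𝔪 ^ (n + 1 + 2) ≤ 𝔪 ^ (n + 2) :=
      sup_le (hxm (n + 1)) (Ideal.pow_le_pow_right (by omega))
    have h2 := D_mul_add (K := Ideal.span {x} * 𝔪 ^ n ⊔ 𝔪 ^ (n + 2)) (L := 𝔪 ^ (n + 1))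
      (K' := Ideal.span {x} * 𝔪 ^ (n + 1) ⊔ 𝔪 ^ (n + 1 + 2))
      (sup_le (hxm n) (Ideal.pow_le_pow_right (by omega))) y (fun z hz => by
        obtain ⟨a, ha, b, hb, rfl⟩ := Submodule.mem_sup.1 hz
        obtain ⟨l, hl, rfl⟩ := Ideal.mem_span_singleton_mul.1 ha
        rw [mul_add, mul_left_comm]
        exact add_mem (Submodule.mem_sup_left (Ideal.mul_mem_mul (Ideal.mem_span_singleton_self _)
          (by rw [pow_succ']; exact Ideal.mul_mem_mul hy hl)))
          (Submodule.mem_sup_right (hym (n + 2) (Ideal.mul_mem_mul (Ideal.mem_span_singleton_self _) hb))))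
      (hcy n hn)
    rw [h.D_pow] at h2
    set K := Ideal.span {x} * 𝔪 ^ n ⊔ 𝔪 ^ (n + 2)
    set K' := Ideal.span {x} * 𝔪 ^ (n + 1) ⊔ 𝔪 ^ (n + 1 + 2)
    set L' := Ideal.span {y} * 𝔪 ^ (n + 1) ⊔ K'
    obtain ⟨a, ha⟩ := ENat.ne_top_iff_exists.1 (hfin (K := K) (r := n + 2) le_sup_right)
    obtain ⟨a', ha'⟩ := ENat.ne_top_iff_exists.1 (hfin (K := K') (r := n + 1 + 2) le_sup_right)
    obtain ⟨b, hb⟩ := ENat.ne_top_iff_exists.1 (hfin (K := L') (r := n + 1 + 2) (le_sup_right.trans le_sup_right))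
    rw [← ha] at e0 h2
    rw [← ha'] at e1 h2
    rw [← hb] at h2
    norm_cast at e0 e1 h2
    have hh1 := hval_succ μ n
    have hh2 := hval_succ μ (n + 1)
    have hh3 := hval_succ μ (n + 2)
    simp only [add_mul, one_mul, show n + 1 + 2 = n + 2 + 1 by omega, show n + 1 + 1 = n + 2 by omega] at e1 hh2 hh3
    have hb2 : b = hval μ (n + 2) := by omega
    have heq : L' = 𝔪 ^ (n + 2) := eq_of_D_eq (sup_le (hym (n + 1)) hK'le) (hfin le_rfl)
      (by rw [← hb, hb2, h.D_pow])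
    refine Submodule.le_of_le_smul_of_le_jacobson_bot (I := 𝔪) (Ideal.fg_of_isNoetherianRing _)
      (maximalIdeal_le_jacobson _) ?_
    conv_lhs => rw [← heq]
    refine sup_le (le_sup_of_le_left ?_) (sup_le (le_sup_of_le_left ?_) (le_sup_of_le_right ?_))
    · exact Ideal.mul_mono_left (Ideal.span_mono (by simp))
    · exact Ideal.mul_mono_left (Ideal.span_mono (by simp))
    · rw [smul_eq_mul, ← pow_succ']
  have hx0 : x ≠ 0 := by
    rintro rfl
    have h1 := hcx c le_rfl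
    have hle : 𝔪 ^ c ≤ 𝔪 ^ (c + 1) := fun z hz => h1 z hz (by simp)
    have h2 := congrArg D (le_antisymm hle (Ideal.pow_le_pow_right (Nat.le_succ c)))
    rw [h.D_pow, h.D_pow] at h2
    have h3 := hval_succ μ c
    norm_cast at h2
    omega
  have hrad : ∃ r, 𝔪 ^ r ≤ Ideal.span {x, y} := ⟨c + 2, (hred c le_rfl).trans Ideal.mul_le_left⟩
  have hp : RegPair (⊤ : Ideal T) x y := regPair_of_dep2 (dep2_top hdim) hx hy hx0 hrad
  -- the colength of the reduction
  obtain ⟨k, hk⟩ := Ideal.exists_pow_inf_eq_pow_smul 𝔪 (Ideal.span {x})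
  have hstrict : ∀ r ≥ c + k + 1, ∀ z, x * z ∈ 𝔪 ^ (r + 1) → z ∈ 𝔪 ^ r := by
    intro r hr z hxz
    have h1 : x * z ∈ (𝔪 ^ (r + 1) • ⊤ ⊓ Ideal.span {x} : Ideal T) :=
      ⟨by simpa using hxz, Ideal.mul_mem_right _ _ (Ideal.mem_span_singleton_self x)⟩
    rw [hk (r + 1) (by omega)] at h1
    have h2 : x * z ∈ 𝔪 ^ (r + 1 - k) * Ideal.span {x} := Submodule.smul_mono le_rfl inf_le_right h1
    obtain ⟨z', hz', he⟩ := Ideal.mem_span_singleton_mul.1 (mul_comm (𝔪 ^ (r + 1 - k)) (Ideal.span {x}) ▸ h2)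
    obtain rfl : z' = z := mul_left_cancel₀ hx0 he
    have key : ∀ j, c ≤ j → j < r → z' ∈ 𝔪 ^ j → z' ∈ 𝔪 ^ (j + 1) := fun j hj hjr hzj =>
      hcx j hj z' hzj (Ideal.pow_le_pow_right (by omega) hxz)
    have : ∀ d, r + 1 - k + d ≤ r → z' ∈ 𝔪 ^ (r + 1 - k + d) := by
      intro d
      induction d with
      | zero => exact fun _ => hz'
      | succ d ih => exact fun hd => key (r + 1 - k + d) (by omega) (by omega) (ih (by omega))
    rcases Nat.lt_or_ge r (r + 1 - k) with hlt | hge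
    · exact Ideal.pow_le_pow_right (by omega) hz'
    · have := this (r - (r + 1 - k)) (by omega)
      rwa [show r + 1 - k + (r - (r + 1 - k)) = r by omega] at this
  have hDJ : D (Ideal.span {x, y}) = (μ : ℕ∞) := by
    have dx : ∀ r ≥ c + k + 1, D (Ideal.span {x} ⊔ 𝔪 ^ (r + 1)) = ((r * μ + 1 : ℕ) : ℕ∞) := by
      intro r hr
      have h1 := D_mul_add (K := 𝔪 ^ r) (L := ⊤) (K' := 𝔪 ^ (r + 1)) le_top x
        (fun z hz => hxm r (Ideal.mul_mem_mul (Ideal.mem_span_singleton_self _) hz)) (fun z _ => hstrict r hr z)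
      rw [h.D_pow, h.D_pow, Ideal.mul_top] at h1
      rw [show D (⊤ : Ideal T) = 0 from Module.length_eq_zero, add_zero] at h1
      obtain ⟨a, ha⟩ := ENat.ne_top_iff_exists.1 (hfin (K := Ideal.span {x} ⊔ 𝔪 ^ (r + 1)) (r := r + 1) le_sup_right)
      rw [← ha] at h1 ⊢
      have h3 := hval_succ μ r
      norm_cast at h1 ⊢
      omega
    set n := c + k + 1
    have h1 := D_mul_add (K := Ideal.span {x} ⊔ 𝔪 ^ (n + 1)) (L := ⊤) (K' := Ideal.span {x} ⊔ 𝔪 ^ (n + 2)) le_top y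
      (fun z hz => by
        obtain ⟨a, ha, b, hb, rfl⟩ := Submodule.mem_sup.1 hz
        rw [mul_add]
        exact add_mem (Submodule.mem_sup_left (Ideal.mul_mem_left _ _ ha))
          (Submodule.mem_sup_right (hym (n + 1) (Ideal.mul_mem_mul (Ideal.mem_span_singleton_self _) hb))))
      (fun z _ hz => by
        obtain ⟨a, ha, b, hb, hab⟩ := Submodule.mem_sup.1 hz
        obtain ⟨a, rfl⟩ := Ideal.mem_span_singleton'.1 ha
        obtain ⟨p, hp', q, hq, hpq⟩ := mem_pair_mul.1 (hred n (by omega) hb)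
        obtain ⟨v, -, hv⟩ := hp.reg (z - q) trivial (a + p) trivial (by linear_combination hpq - hab)
        rw [show z = x * v + q by linear_combination hv]
        exact add_mem (Submodule.mem_sup_left (Ideal.mul_mem_right _ _ (Ideal.mem_span_singleton_self x)))
          (Submodule.mem_sup_right hq))
    rw [dx n (by omega), show n + 2 = n + 1 + 1 by omega, dx (n + 1) (by omega), Ideal.mul_top,
      show D (⊤ : Ideal T) = 0 from Module.length_eq_zero, add_zero] at h1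
    have hJ : Ideal.span {y} ⊔ (Ideal.span {x} ⊔ 𝔪 ^ (n + 1 + 1)) = Ideal.span {x, y} := by
      rw [Ideal.span_insert x]
      refine le_antisymm (sup_le le_sup_right (sup_le le_sup_left ?_))
        (sup_le (le_sup_of_le_right le_sup_left) le_sup_left)
      rw [← Ideal.span_insert]
      exact (hred n (by omega)).trans Ideal.mul_le_left
    rw [hJ] at h1
    obtain ⟨r, hr⟩ := hrad
    obtain ⟨a, ha⟩ := ENat.ne_top_iff_exists.1 (hfin hr)
    rw [← ha] at h1 ⊢
    norm_cast at h1 ⊢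
    simp only [add_mul, one_mul] at h1
    omega
  -- conclusion
  have hm2 : ∀ {K : Ideal T} {z : T}, z ∈ 𝔪 → 𝔪 ^ 2 ≤ K → D K ≤ D (K ⊔ Ideal.span {z}) + 1 := fun {K z} hz hK =>
    D_le_add_one fun r hr => hK (by rw [sq]; exact Ideal.mul_mem_mul hr hz)
  have hD2 : D (𝔪 ^ 2) = ((μ + 2 : ℕ) : ℕ∞) := by
    rw [h.D_pow, hval_succ, hval_succ, show hval μ 0 = 0 from rfl]
    congr 1
    omega
  have hE : 𝔪 ^ 2 ⊔ Ideal.span {x} ⊔ Ideal.span {y} = Ideal.span {x, y} ⊔ 𝔪 ^ 2 := by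
    rw [Ideal.span_insert x, sup_assoc, sup_comm]
  have hlow : (μ : ℕ∞) ≤ D (Ideal.span {x, y} ⊔ 𝔪 ^ 2) := by
    have h2 := (hm2 hx le_rfl).trans (add_le_add (hm2 (K := 𝔪 ^ 2 ⊔ Ideal.span {x}) hy le_sup_left) le_rfl)
    rw [hE, hD2] at h2
    obtain ⟨b, hb⟩ := ENat.ne_top_iff_exists.1 (hfin (K := Ideal.span {x, y} ⊔ 𝔪 ^ 2) (r := 2) le_sup_right)
    rw [← hb] at h2 ⊢
    norm_cast at h2 ⊢
    omega
  have hJ2 : 𝔪 ^ 2 ≤ Ideal.span {x, y} := by
    have hle : D (Ideal.span {x, y} ⊔ 𝔪 ^ 2) ≤ D (Ideal.span {x, y}) := by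
      rw [D_eq_add (show Ideal.span {x, y} ≤ Ideal.span {x, y} ⊔ 𝔪 ^ 2 from le_sup_left)]
      exact le_add_self
    have heq : D (Ideal.span {x, y}) = D (Ideal.span {x, y} ⊔ 𝔪 ^ 2) := le_antisymm (hDJ.le.trans hlow) hle
    rw [eq_of_D_eq le_sup_left (hfin (K := Ideal.span {x, y} ⊔ 𝔪 ^ 2) (r := 2) le_sup_right) heq]
    exact le_sup_right
  have hnot : ∀ {p q : T}, p ∈ 𝔪 → Ideal.span {p, q} = Ideal.span {x, y} → ∀ r, q - r * p ∉ 𝔪 ^ 2 := by
    intro p q hp' hpq r hr
    have h2 : 𝔪 ^ 2 ⊔ Ideal.span {p} = Ideal.span {x, y} ⊔ 𝔪 ^ 2 := by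
      rw [← hpq]
      refine le_antisymm (sup_le le_sup_right (le_sup_of_le_left (Ideal.span_mono (by simp))))
        (sup_le ?_ le_sup_left)
      rw [Ideal.span_le]
      rintro w (rfl | rfl)
      · exact Submodule.mem_sup_right (Ideal.mem_span_singleton_self _)
      · rw [SetLike.mem_coe, show w = (w - r * p) + r * p by ring]
        exact add_mem (Submodule.mem_sup_left hr)
          (Submodule.mem_sup_right (Ideal.mul_mem_left _ _ (Ideal.mem_span_singleton_self _)))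
    have h3 := hm2 (K := 𝔪 ^ 2) hp' le_rfl
    rw [h2, hD2, sup_eq_left.2 hJ2, hDJ] at h3
    norm_cast at h3
    omega
  refine ⟨x, y, hx, hxW, hp, fun z hz => ?_⟩
  obtain ⟨a, b, rfl⟩ := Ideal.mem_span_pair.1 (hJ2 hz)
  rw [mem_pair_mul]
  refine ⟨a, ?_, b, ?_, by ring⟩
  · by_contra ha
    obtain ⟨u, rfl⟩ : IsUnit a := by
      by_contra hu; exact ha ((IsLocalRing.mem_maximalIdeal _).2 hu)
    refine hnot hy (by rw [Set.pair_comm]) (-(↑u⁻¹ * b)) ?_
    rw [show x - -(↑u⁻¹ * b) * y = ↑u⁻¹ * (↑u * x + b * y) by rw [mul_add, ← mul_assoc, Units.inv_mul]; ring]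
    exact Ideal.mul_mem_left _ _ hz
  · by_contra hb
    obtain ⟨u, rfl⟩ : IsUnit b := by
      by_contra hu; exact hb ((IsLocalRing.mem_maximalIdeal _).2 hu)
    refine hnot hx rfl (-(↑u⁻¹ * a)) ?_
    rw [show y - -(↑u⁻¹ * a) * x = ↑u⁻¹ * (a * x + ↑u * y) by
      rw [mul_add, show (↑u⁻¹ : T) * (↑u * y) = y by rw [← mul_assoc, Units.inv_mul, one_mul]]; ring]
    exact Ideal.mul_mem_left _ _ hz

end Groth.L05.PtChain
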