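import Groth.Agent.L05.PtChain.Can.StepData
import Mathlib.RingTheory.Polynomial.Quotient
import Mathlib.RingTheory.Localization.AtPrime.Basic
import Mathlib.RingTheory.Ideal.GoingUp
import Mathlib.RingTheory.Polynomial.Basic
import Mathlib.LinearAlgebra.Dual.Lemmas

/-! Canonical ideals transform to canonical ideals under a point blow-up. -/

set_option autoImplicit false
set_option maxSynthPendingDepth 5
set_option linter.style.haveILetI false
set_option backward.isDefEq.respectTransparency false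
set_option backward.isDefEq.respectTransparency.types false
set_option maxHeartbeats 1000000

universe u

noncomputable section

namespace Groth.L05.PtChain

open IsLocalRing Groth.L13.BU Polynomial

theorem exists_soc_notMem {A : Type u} [CommRing A] [IsLocalRing A] [IsNoetherianRing A] {J M : Ideal A}
    (hM : M ≠ ⊥) (hJ : J ≤ maximalIdeal A) (hrad : ∃ n, maximalIdeal A ^ n ≤ J) :
    ∃ z ∈ soc J M, z ∉ J * M := by
  classical
  obtain ⟨n, hn⟩ := hrad
  have hex : ∃ j, maximalIdeal A ^ j * M ≤ J * M := ⟨n, Ideal.mul_mono_left hn⟩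
  have hj := Nat.find_spec hex
  have h0 : Nat.find hex ≠ 0 := by
    intro h0
    rw [h0, pow_zero, Ideal.one_eq_top, Ideal.top_mul] at hj
    refine hM (Submodule.eq_bot_of_le_smul_of_le_jacobson_bot (maximalIdeal A) M (Ideal.fg_of_isNoetherianRing _)
      (hj.trans (by rw [smul_eq_mul]; exact Ideal.mul_mono_left hJ)) (maximalIdeal_le_jacobson _))
  obtain ⟨k, hk⟩ := Nat.exists_eq_succ_of_ne_zero h0
  have hlt := Nat.find_min hex (show k < Nat.find hex by omega)
  obtain ⟨z, hz, hzJ⟩ := SetLike.not_le_iff_exists.1 hlt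
  refine ⟨z, ⟨Ideal.mul_le_right hz, fun r hr => ?_⟩, hzJ⟩
  rw [hk, pow_succ', mul_assoc] at hj
  exact hj (Ideal.mul_mem_mul hr hz)

variable {T : Type u} [CommRing T] [IsLocalRing T] [IsDomain T] [IsNoetherianRing T] {M : Ideal T} {x y s : T}

namespace SData

/-- The transform of a canonical ideal is canonical at the points of the exceptional fibre. -/
theorem can_localization (h : SData M x y s) (hM : M ≠ ⊥) (q : Ideal h.Ch) [hq : q.IsMaximal]
    (hqm : maximalIdeal T ≤ q.comap h.ι) [IsDomain (Localization.AtPrime q)] [IsNoetherianRing (Localization.AtPrime q)]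
    (hdim : ringKrullDim (Localization.AtPrime q) = 2) :
    Can (h.MC.map (algebraMap h.Ch (Localization.AtPrime q))) := by
  classical
  haveI := h.isDomain_chart
  letI : Algebra T[X] h.Ch := h.ev.toAlgebra
  haveI : Module.Finite T[X] h.Ch := RingHom.finite_algebraMap.1 h.finite_ev
  haveI : Algebra.IsIntegral T[X] h.Ch := Algebra.IsIntegral.of_finite T[X] h.Ch
  set n : Ideal T[X] := q.under T[X] with hn
  haveI hnm : n.IsMaximal := Ideal.isMaximal_comap_of_isIntegral_of_isMaximal q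
  have hPn : polyI (maximalIdeal T) ≤ n := Ideal.map_le_iff_le_comap.2 fun e he => by
    rw [Ideal.mem_comap, hn, Ideal.under_def, Ideal.mem_comap]
    show h.ev (C e) ∈ q
    rw [h.ev_C]
    exact hqm he
  -- the equation of the point
  set ρ : T[X] →+* (ResidueField T)[X] := mapRingHom (residue T)
  have hρs : Function.Surjective ρ := map_surjective _ residue_surjective
  have hρk : RingHom.ker ρ = polyI (maximalIdeal T) := by
    rw [ker_mapRingHom, IsLocalRing.ker_residue]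
  have hnρ : (n.map ρ).comap ρ = n := by
    rw [Ideal.comap_map_of_surjective' ρ hρs, hρk, sup_eq_left.2 hPn]
  haveI hmax : (n.map ρ).IsMaximal :=
    Ideal.IsMaximal.map_of_surjective_of_ker_le hρs (hρk.le.trans hPn)
  obtain ⟨g, hg⟩ := IsPrincipalIdealRing.principal (n.map ρ)
  have hg0 : g ≠ 0 := by
    rintro rfl
    rw [Submodule.span_zero_singleton] at hg
    have hX : (X : (ResidueField T)[X]) ∈ n.map ρ ∨ IsUnit (X : (ResidueField T)[X]) :=
      Or.inr (by
        by_contra hu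
        obtain ⟨P, hP, hXP⟩ := Ideal.exists_le_maximal (Ideal.span {(X : (ResidueField T)[X])})
          (fun e => hu (Ideal.span_singleton_eq_top.1 e))
        have hPb : n.map ρ = P := hmax.eq_of_le hP.ne_top (hg ▸ bot_le)
        have h1 := hXP (Ideal.mem_span_singleton_self _)
        rw [← hPb, hg] at h1
        exact X_ne_zero ((Submodule.mem_bot _).1 h1))
    rcases hX with hX | hX
    · rw [hg] at hX; exact X_ne_zero ((Submodule.mem_bot _).1 hX)
    · exact not_isUnit_X hX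
  set gb := g * C g.leadingCoeff⁻¹
  have hgbm : gb.Monic := monic_mul_leadingCoeff_inv hg0
  have hgb : n.map ρ = Ideal.span {gb} := by
    rw [hg]
    exact (Ideal.span_singleton_mul_right_unit
      (isUnit_C.2 (isUnit_iff_ne_zero.2 (inv_ne_zero (leadingCoeff_ne_zero.2 hg0)))) g).symm
  obtain ⟨h0, hh0, hdeg, hmon⟩ := lifts_and_natDegree_eq_and_monic (f := residue T) (p := gb)
    ((lifts_iff_coeff_lifts gb).2 fun i => residue_surjective _) hgbm
  have hmemn : ∀ f, f ∈ n ↔ ρ f ∈ Ideal.span {gb} := fun f => by rw [← hgb, ← Ideal.mem_comap, hnρ]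
  have h0n : h0 ∈ n := (hmemn h0).2 (by
    show Polynomial.map (residue T) h0 ∈ _
    rw [hh0]; exact Ideal.mem_span_singleton_self _)
  have h0P : h0 ∉ polyI (maximalIdeal T) := fun hh => by
    rw [← hρk, RingHom.mem_ker] at hh
    exact hgbm.ne_zero (hh0.symm.trans hh)
  haveI hPprime : (polyI (maximalIdeal T)).IsPrime := Ideal.isPrime_map_C_of_isPrime
  have hN : ∀ f : T[X], f ∈ n → (∀ i, h0.natDegree ≤ i → f.coeff i = 0) → f ∈ polyI (maximalIdeal T) := by
    intro f hf hfd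
    rw [← hρk, RingHom.mem_ker]
    refine eq_zero_of_dvd_of_degree_lt (Ideal.mem_span_singleton.1 ((hmemn f).1 hf)) ?_
    rw [degree_eq_natDegree hgbm.ne_zero, degree_lt_iff_coeff_zero]
    intro i hi
    show (Polynomial.map (residue T) f).coeff i = 0
    rw [coeff_map, hfd i (by rw [hdeg]; exact_mod_cast hi), map_zero]
  have hsplit : ∀ σ ∈ n, ∃ t, σ - h0 * t ∈ polyI (maximalIdeal T) := by
    intro σ hσ
    obtain ⟨c, hc⟩ := Ideal.mem_span_singleton.1 ((hmemn σ).1 hσ)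
    obtain ⟨t, rfl⟩ := hρs c
    refine ⟨t, ?_⟩
    rw [← hρk, RingHom.mem_ker, map_sub, map_mul, sub_eq_zero, hc]
    congr 1
    exact hh0.symm
  -- the ideals
  set J' : Ideal h.Ch := Ideal.span {h.ι x, h.ev h0}
  have hαJ : Ideal.span {h.ι x} * h.MC ≤ J' * h.MC := Ideal.mul_mono_left (Ideal.span_mono (by simp))
  have hrepJ : ∀ w ∈ J' * h.MC, ∀ P σ, h.Rep w P σ → σ ∈ n := by
    intro w hw P σ hP
    obtain ⟨a, ha, b, hb, rfl⟩ : ∃ a ∈ h.MC, ∃ b ∈ h.MC, w = h.ι x * a + h.ev h0 * b := by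
      simp only [J', Ideal.span_insert, Ideal.sup_mul] at hw
      obtain ⟨u, hu, v, hv, rfl⟩ := Submodule.mem_sup.1 hw
      obtain ⟨a, ha, rfl⟩ := Ideal.mem_span_singleton_mul.1 hu
      obtain ⟨b, hb, rfl⟩ := Ideal.mem_span_singleton_mul.1 hv
      exact ⟨a, ha, b, hb, rfl⟩
    obtain ⟨Pa, σa, hPa⟩ := h.exists_rep (Ideal.mul_mem_left _ (h.ι x) ha)
    have hσa := h.rep_α (Ideal.mul_mem_mul (Ideal.mem_span_singleton_self _) ha) hPa
    obtain ⟨Pb, σb, hPb⟩ := h.exists_rep hb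
    have h1 := h.rep_unique hP (rep_add hPa (rep_smul h0 hPb))
    rw [show σ = (σ - (σa + h0 * σb)) + (σa + h0 * σb) by ring]
    exact add_mem (hPn h1) (add_mem (hPn hσa) (Ideal.mul_mem_right _ _ h0n))
  have key0 : ∀ v ∈ h.MC, (∀ c P σ, h.Rep (c * v) P σ → σ ∈ polyI (maximalIdeal T)) →
      v ∈ Ideal.span {h.ι x} * h.MC := by
    intro v hv hker
    obtain ⟨P, σ, hP⟩ := h.exists_rep hv
    have hσ := hker 1 P σ (by rwa [one_mul])
    have hσx : h.ev σ * h.sx ∈ Ideal.span {h.ι x} * h.MC := Ideal.mul_mem_mul (h.ev_max_mem hσ) h.sx_mem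
    rw [hP.2]
    refine add_mem (h.ev_polyI_mul_mem (h.nondeg (polyI (maximalIdeal T)) (P.natDegree + 1) (fun f hf _ => hf) hP.1
      (fun i hi => coeff_eq_zero_of_natDegree_lt (by omega)) fun e he Q τ hQ => ?_)) hσx
    have h1 : h.dx he * (h.ev σ * h.sx) ∈ Ideal.span {h.ι x} * h.MC := Ideal.mul_mem_left _ _ hσx
    obtain ⟨Q₂, τ₂, hQ₂⟩ := h.exists_rep (Ideal.mul_le_right h1)
    have h2 := hker (h.dx he) (Q + Q₂) (τ + τ₂) (by rw [hP.2, mul_add]; exact rep_add hQ hQ₂)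
    simpa using sub_mem h2 (h.rep_α h1 hQ₂)
  have keyn : ∀ v ∈ h.MC, (∀ c P σ, h.Rep (c * v) P σ → σ ∈ n) → v ∈ J' * h.MC := by
    intro v hv hker
    obtain ⟨P, σ, hP⟩ := h.exists_rep hv
    obtain ⟨t, ht⟩ := hsplit σ (hker 1 P σ (by rwa [one_mul]))
    have hmodC : ∀ p : T[X], p ∈ polyI M → p %ₘ h0 ∈ polyI M ∧ p /ₘ h0 ∈ polyI M := by
      intro p hp
      have h1 : Polynomial.map (Ideal.Quotient.mk M) p = 0 := by
        rw [← coe_mapRingHom, ← RingHom.mem_ker, ker_mapRingHom, Ideal.mk_ker]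
        exact hp
      refine ⟨?_, ?_⟩
      · have h2 := map_modByMonic (Ideal.Quotient.mk M) hmon (p := p)
        rw [h1, zero_modByMonic, ← coe_mapRingHom, ← RingHom.mem_ker, ker_mapRingHom, Ideal.mk_ker] at h2
        exact h2
      · have h2 := map_divByMonic (Ideal.Quotient.mk M) hmon (p := p)
        rw [h1, zero_divByMonic, ← coe_mapRingHom, ← RingHom.mem_ker, ker_mapRingHom, Ideal.mk_ker] at h2
        exact h2
    obtain ⟨hR, hQ⟩ := hmodC P hP.1
    have hdiff : v - h.ev (P %ₘ h0) ∈ J' * h.MC := by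
      have h1 : h.ev σ * h.sx = h.ev h0 * (h.ev t * h.sx) + h.ev (σ - h0 * t) * h.sx := by
        rw [map_sub, map_mul]; ring
      have h3 : v - h.ev (P %ₘ h0) = h.ev h0 * h.ev (P /ₘ h0) + h.ev σ * h.sx := by
        rw [show h.ev h0 * h.ev (P /ₘ h0) = h.ev P - h.ev (P %ₘ h0) by
          rw [← map_mul, eq_sub_iff_add_eq', ← map_add, modByMonic_add_div P h0]]
        linear_combination hP.2
      rw [h3, h1]
      have h2 : h.ev h0 * h.ev (P /ₘ h0) + h.ev h0 * (h.ev t * h.sx) + h.ev (σ - h0 * t) * h.sx ∈ J' * h.MC :=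
        add_mem (add_mem (Ideal.mul_mem_mul (Ideal.subset_span (by simp)) (h.ev_polyI_mem hQ))
          (Ideal.mul_mem_mul (Ideal.subset_span (by simp)) (Ideal.mul_mem_left _ _ h.sx_mem)))
          (hαJ (Ideal.mul_mem_mul (h.ev_max_mem ht) h.sx_mem))
      convert h2 using 1
      ring
    have hR' : h.ev (P %ₘ h0) ∈ Ideal.span {h.ι x} * h.MC := by
      refine h.ev_polyI_mul_mem (h.nondeg n h0.natDegree hN hR (fun i hi => ?_) fun e he Q τ hQτ => ?_)
      · refine coeff_eq_zero_of_degree_lt ?_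
        exact (degree_modByMonic_lt P hmon).trans_le (degree_le_natDegree.trans (by exact_mod_cast hi))
      · have h3 : h.dx he * (v - h.ev (P %ₘ h0)) ∈ J' * h.MC := Ideal.mul_mem_left _ _ hdiff
        obtain ⟨Q₂, τ₂, hQ₂⟩ := h.exists_rep (Ideal.mul_le_right h3)
        have h4 := hker (h.dx he) (Q + Q₂) (τ + τ₂) (by
          rw [show h.dx he * v = h.dx he * h.ev (P %ₘ h0) + h.dx he * (v - h.ev (P %ₘ h0)) by ring]
          exact rep_add hQτ hQ₂)
        simpa using sub_mem h4 (hrepJ _ h3 _ _ hQ₂)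
    rw [show v = h.ev (P %ₘ h0) + (v - h.ev (P %ₘ h0)) by ring]
    exact add_mem (hαJ hR') hdiff
  -- localisation
  set E := Localization.AtPrime q
  set j := algebraMap h.Ch E
  have hjinj : Function.Injective j := IsLocalization.injective E q.primeCompl_le_nonZeroDivisors
  have hαq : h.ι x ∈ q := hqm h.pair.mem₁
  have h0q : h.ev h0 ∈ q := h0n
  have hjmax : ∀ {c : h.Ch}, c ∈ q → j c ∈ maximalIdeal E := fun {c} hc =>
    (IsLocalization.AtPrime.to_map_mem_maximal_iff E q c).2 hc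
  have hJE : J'.map j = Ideal.span {j (h.ι x), j (h.ev h0)} := by rw [Ideal.map_span, Set.image_pair]
  have hMne : h.MC.map j ≠ ⊥ := by
    intro h0
    obtain ⟨m, hm, hm0⟩ := Submodule.exists_mem_ne_zero_of_ne_bot hM
    have h1 : j (h.ι m) = 0 := by
      rw [← Ideal.mem_bot, ← h0]; exact Ideal.mem_map_of_mem _ (Ideal.mem_map_of_mem _ hm)
    exact hm0 (h.ι_injective ((hjinj (h1.trans (map_zero _).symm)).trans (map_zero _).symm))
  have hrad : ∃ k, maximalIdeal E ^ k ≤ J'.map j := by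
    refine Ideal.exists_pow_le_of_le_radical_of_fg ?_ (Ideal.fg_of_isNoetherianRing _)
    rw [Ideal.radical_eq_sInf]
    refine le_sInf fun Q ⟨hQ, hQp⟩ => ?_
    haveI := hQp
    set Q₀ := Q.comap j
    have hle : Q₀ ≤ q := fun c hc => by
      by_contra hcq
      exact hQp.ne_top (Q.eq_top_of_isUnit_mem hc (IsLocalization.map_units E (⟨c, hcq⟩ : q.primeCompl)))
    have hQn : Q₀.under T[X] = n := by
      refine (hnm.eq_of_le (Ideal.IsPrime.ne_top inferInstance) fun f hf => ?_).symm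
      obtain ⟨t, ht⟩ := hsplit f hf
      show h.ev f ∈ Q₀
      rw [show f = h0 * t + (f - h0 * t) by ring, map_add, map_mul]
      refine add_mem (Ideal.mul_mem_right _ _ (hQ ?_)) ?_
      · exact Ideal.mem_map_of_mem _ (Ideal.subset_span (by simp))
      · obtain ⟨w, hw⟩ := Ideal.mem_span_singleton'.1 (h.ev_max_mem ht)
        rw [← hw]
        exact Ideal.mul_mem_left _ _ (hQ (Ideal.mem_map_of_mem _ (Ideal.subset_span (by simp))))
    haveI : Q₀.IsMaximal := Ideal.isMaximal_of_isIntegral_of_isMaximal_comap Q₀ (by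
      have : Q₀.comap (algebraMap T[X] h.Ch) = n := hQn
      rw [this]; exact hnm)
    have heq : Q₀ = q := Ideal.IsMaximal.eq_of_le ‹_› hq.ne_top hle
    rw [← Localization.AtPrime.map_eq_maximalIdeal, Ideal.map_le_iff_le_comap]
    exact heq.ge
  have hmemE : ∀ {I : Ideal h.Ch} {z : E}, z ∈ I.map j ↔ ∃ w ∈ I, ∃ u ∉ q, z * j u = j w := by
    intro I z
    rw [IsLocalization.mem_map_algebraMap_iff q.primeCompl]
    exact ⟨fun ⟨⟨⟨w, hw⟩, ⟨u, hu⟩⟩, he⟩ => ⟨w, hw, u, hu, he⟩,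
      fun ⟨w, hw, u, hu, he⟩ => ⟨⟨⟨w, hw⟩, ⟨u, hu⟩⟩, he⟩⟩
  have hpair : RegPair (h.MC.map j) (j (h.ι x)) (j (h.ev h0)) := by
    refine ⟨hjmax hαq, hjmax h0q, fun h0 => h.α_ne_zero (hjinj (h0.trans (map_zero _).symm)), fun z hz w hw he => ?_,
      hJE ▸ hrad⟩
    obtain ⟨z₀, hz₀, u, hu, hzu⟩ := hmemE.1 hz
    obtain ⟨w₀, hw₀, u', hu', hwu⟩ := hmemE.1 hw
    have e1 : h.ev h0 * (u' * z₀) = h.ι x * (u * w₀) := hjinj (by
      simp only [map_mul, ← hzu, ← hwu]
      linear_combination j u * j u' * he)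
    have h2 : u' * z₀ ∈ Ideal.span {h.ι x} * h.MC := by
      refine key0 _ (Ideal.mul_mem_left _ _ hz₀) fun c P σ hP => ?_
      have h3 : h.ev h0 * (c * (u' * z₀)) ∈ Ideal.span {h.ι x} * h.MC := by
        rw [mul_left_comm, e1]
        exact Ideal.mul_mem_left _ _ (Ideal.mul_mem_mul (Ideal.mem_span_singleton_self _) (Ideal.mul_mem_left _ _ hw₀))
      exact (hPprime.mem_or_mem (h.rep_α h3 (rep_smul h0 hP))).resolve_left h0P
    obtain ⟨v, hv, hv'⟩ := Ideal.mem_span_singleton_mul.1 h2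
    obtain ⟨U, hU⟩ := IsLocalization.map_units E (⟨u' * u, q.primeCompl.mul_mem hu' hu⟩ : q.primeCompl)
    refine ⟨↑U⁻¹ * j v, Ideal.mul_mem_left _ _ (Ideal.mem_map_of_mem _ hv), U.mul_right_inj.1 ?_⟩
    rw [← mul_assoc (j (h.ι x)), mul_comm (j (h.ι x)), ← mul_assoc, ← mul_assoc, Units.mul_inv, one_mul, ← map_mul,
      hv', hU]
    show j (u' * u) * z = j (u' * z₀)
    rw [map_mul, map_mul, ← hzu]
    ring
  refine Can.of_pair hdim hMne hpair ?_
  rw [← hJE, covBy_ideal_iff (mul_le_soc _ _), ← Ideal.map_mul]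
  have hpull : ∀ z ∈ soc (J'.map j) (h.MC.map j), ∃ w ∈ h.MC, (∀ r ∈ q, r * w ∈ J' * h.MC) ∧
      ∃ U : Eˣ, z * U = j w := by
    intro z hz
    obtain ⟨w, hw, u, hu, he⟩ := hmemE.1 hz.1
    haveI := Groth.L05.RatPow.chart_isDomain (maximalIdeal T) x h.mem_one h.pair.ne₁
    haveI : IsNoetherianRing h.Ch := IsNoetherianRing.of_finite T[X] h.Ch
    obtain ⟨G, hG⟩ := IsNoetherian.noetherian q
    have h1 : ∀ r ∈ q, ∃ v ∉ q, v * (r * w) ∈ J' * h.MC := by
      intro r hr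
      have h2 : j (r * w) ∈ (J' * h.MC).map j := by
        rw [map_mul, ← he, ← mul_assoc, Ideal.map_mul]
        exact Ideal.mul_mem_right _ _ (hz.2 _ (hjmax hr))
      obtain ⟨v, hv, hv'⟩ := (IsLocalization.algebraMap_mem_map_algebraMap_iff q.primeCompl _ _ _).1 h2
      exact ⟨v, hv, hv'⟩
    choose! v hv hv' using h1
    have hGq : ∀ g ∈ G, g ∈ q := fun g hg => hG ▸ Submodule.subset_span hg
    set V := ∏ g ∈ G, v g
    have hV : V ∉ q := fun hmem => by
      obtain ⟨g, hg, hg'⟩ := hq.isPrime.prod_mem_iff.1 hmem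
      exact hv g (hGq g hg) hg'
    refine ⟨V * w, Ideal.mul_mem_left _ _ hw, fun r hr => ?_, ?_⟩
    · rw [← hG] at hr
      induction hr using Submodule.span_induction with
      | mem g hg =>
        obtain ⟨c, hc⟩ := Finset.dvd_prod_of_mem v hg
        rw [show V = v g * c from hc, show g * (v g * c * w) = c * (v g * (g * w)) by ring]
        exact Ideal.mul_mem_left _ _ (hv' g (hGq g hg))
      | zero => rw [zero_mul]; exact zero_mem _
      | add a b _ _ ha hb => rw [add_mul]; exact add_mem ha hb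
      | smul c a _ ha => rw [smul_eq_mul, mul_assoc]; exact Ideal.mul_mem_left _ _ ha
    · obtain ⟨U, hU⟩ := IsLocalization.map_units E (⟨u * V, q.primeCompl.mul_mem hu hV⟩ : q.primeCompl)
      refine ⟨U, ?_⟩
      rw [hU]
      show z * j (u * V) = j (V * w)
      rw [map_mul, map_mul, ← he]
      ring
  constructor
  · obtain ⟨z, hz, hzJ⟩ := exists_soc_notMem hMne (Ideal.map_le_iff_le_comap.2 (Ideal.span_le.2 (by
      rintro w (rfl | rfl)
      exacts [hjmax hαq, hjmax h0q]))) hrad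
    exact ⟨z, hz, by rwa [← Ideal.map_mul] at hzJ⟩
  intro z hz hzJ t ht
  obtain ⟨w₁, hw₁, hq₁, U₁, hU₁⟩ := hpull z hz
  obtain ⟨w₂, hw₂, hq₂, U₂, hU₂⟩ := hpull t ht
  letI : Field (T[X] ⧸ n) := Ideal.Quotient.field n
  haveI : q.LiesOver n := ⟨rfl⟩
  let π : h.Ch → T[X] ⧸ n := fun v =>
    if hv : ∃ P σ, h.Rep v P σ then Ideal.Quotient.mk n hv.choose_spec.choose else 0
  have hπ : ∀ {v P σ}, h.Rep v P σ → π v = Ideal.Quotient.mk n σ := by
    intro v P σ hr
    have hex : ∃ P σ, h.Rep v P σ := ⟨P, σ, hr⟩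
    simp only [π, dif_pos hex]
    exact Ideal.Quotient.eq.2 (hPn (h.rep_unique hex.choose_spec.choose_spec hr))
  have hπJ : ∀ v ∈ J' * h.MC, π v = 0 := fun v hv => by
    obtain ⟨P, σ, hr⟩ := h.exists_rep (Ideal.mul_le_right hv)
    rw [hπ hr, Ideal.Quotient.eq_zero_iff_mem]
    exact hrepJ v hv P σ hr
  have hπadd : ∀ {v w}, v ∈ h.MC → w ∈ h.MC → π (v + w) = π v + π w := fun {v w} hv hw => by
    obtain ⟨P, σ, hr⟩ := h.exists_rep hv
    obtain ⟨Q, τ, hr'⟩ := h.exists_rep hw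
    rw [hπ hr, hπ hr', hπ (rep_add hr hr'), map_add]
  have hπsmul : ∀ (f : T[X]) {v}, v ∈ h.MC → π (h.ev f * v) = Ideal.Quotient.mk n f * π v := fun f {v} hv => by
    obtain ⟨P, σ, hr⟩ := h.exists_rep hv
    rw [hπ hr, hπ (rep_smul f hr), map_mul]
  have mkfun : ∀ w ∈ h.MC, (∀ r ∈ q, r * w ∈ J' * h.MC) →
      ∃ f : (h.Ch ⧸ q) →ₗ[T[X] ⧸ n] (T[X] ⧸ n), ∀ c, f (Ideal.Quotient.mk q c) = π (c * w) := by
    intro w hw hqw
    let f₀ : h.Ch →ₗ[T[X]] (T[X] ⧸ n) :=
      { toFun := fun c => π (c * w)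
        map_add' := fun a b => by rw [add_mul, hπadd (Ideal.mul_mem_left _ _ hw) (Ideal.mul_mem_left _ _ hw)]
        map_smul' := fun f c => by
          rw [Algebra.smul_def, mul_assoc]
          exact hπsmul f (Ideal.mul_mem_left _ _ hw) }
    let f₁ : (h.Ch ⧸ q) →ₗ[T[X]] (T[X] ⧸ n) :=
      Submodule.liftQ (q.restrictScalars T[X]) f₀ fun c hc => hπJ _ (hqw c hc)
    refine ⟨{ f₁ with map_smul' := fun a c => ?_ }, fun c => rfl⟩
    obtain ⟨a, rfl⟩ := Ideal.Quotient.mk_surjective a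
    obtain ⟨c, rfl⟩ := Ideal.Quotient.mk_surjective c
    show f₁ (a • Ideal.Quotient.mk q c) = Ideal.Quotient.mk n a * f₁ (Ideal.Quotient.mk q c)
    rw [f₁.map_smul, Algebra.smul_def]
    rfl
  obtain ⟨f₁, hf₁⟩ := mkfun w₁ hw₁ hq₁
  obtain ⟨f₂, hf₂⟩ := mkfun w₂ hw₂ hq₂
  have hf₁0 : f₁ ≠ 0 := fun h0 => hzJ (by
    have h1 : w₁ ∈ J' * h.MC := keyn w₁ hw₁ fun c P σ hr => Ideal.Quotient.eq_zero_iff_mem.1 (by
      rw [← hπ hr, ← hf₁, h0]; rfl)
    rw [show z = ↑U₁⁻¹ * j w₁ by rw [← hU₁, mul_comm z, ← mul_assoc, Units.inv_mul, one_mul]]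
    exact Ideal.mul_mem_left _ _ (Ideal.mem_map_of_mem _ h1))
  letI : Field (h.Ch ⧸ q) := Ideal.Quotient.field q
  let θ : (h.Ch ⧸ q) →ₗ[T[X] ⧸ n] ((h.Ch ⧸ q) →ₗ[T[X] ⧸ n] (T[X] ⧸ n)) :=
    { toFun := fun c => f₁.comp (LinearMap.mulLeft (T[X] ⧸ n) c)
      map_add' := fun a b => LinearMap.ext fun z => by simp [add_mul]
      map_smul' := fun r a => LinearMap.ext fun z => by simp }
  have hθ : Function.Injective θ := (injective_iff_map_eq_zero θ).2 fun c hc => by_contra fun hc0 => hf₁0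
    (LinearMap.ext fun y => by
      have h1 : θ c (c⁻¹ * y) = 0 := by rw [hc]; rfl
      simpa [θ, ← mul_assoc, mul_inv_cancel₀ hc0] using h1)
  haveI : Module.Finite (T[X] ⧸ n) (h.Ch ⧸ q) := Module.Finite.of_restrictScalars_finite T[X] _ _
  obtain ⟨c₀, hc₀⟩ := (LinearMap.injective_iff_surjective_of_finrank_eq_finrank
    Subspace.dual_finrank_eq.symm).1 hθ f₂
  obtain ⟨c, rfl⟩ := Ideal.Quotient.mk_surjective c₀
  have hmem : w₂ - c * w₁ ∈ J' * h.MC := by
    refine keyn _ (sub_mem hw₂ (Ideal.mul_mem_left _ _ hw₁)) fun d P σ hr => Ideal.Quotient.eq_zero_iff_mem.1 ?_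
    rw [← hπ hr]
    have h1 := hπadd (v := d * (w₂ - c * w₁)) (w := d * (c * w₁))
      (Ideal.mul_mem_left _ _ (sub_mem hw₂ (Ideal.mul_mem_left _ _ hw₁)))
      (Ideal.mul_mem_left _ _ (Ideal.mul_mem_left _ _ hw₁))
    rw [show d * (w₂ - c * w₁) + d * (c * w₁) = d * w₂ by ring] at h1
    have h2 : π (d * w₂) = π (d * (c * w₁)) := by
      rw [← hf₂, ← hc₀, show d * (c * w₁) = c * d * w₁ by ring, ← hf₁, map_mul]
      rfl
    rw [h2] at h1
    simpa using h1.symm
  rw [show t = ↑U₂⁻¹ * j (w₂ - c * w₁) + ↑U₂⁻¹ * j c * (z * ↑U₁) by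
    rw [hU₁, map_sub, map_mul, ← hU₂, show (↑U₂⁻¹ : E) * j c * j w₁ = ↑U₂⁻¹ * (j c * j w₁) by ring, ← mul_add,
      sub_add_cancel, mul_comm t, ← mul_assoc, Units.inv_mul, one_mul]]
  exact add_mem (Submodule.mem_sup_left (Ideal.mul_mem_left _ _ (Ideal.mem_map_of_mem _ hmem)))
    (Submodule.mem_sup_right (Ideal.mul_mem_left _ _ (Ideal.mul_mem_right _ _ (Ideal.mem_span_singleton_self _))))

end SData

end Groth.L05.PtChain
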