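import Groth.Agent.L05.PtChain.Can.Forms
import Groth.Agent.L05.RatPow.Normal
import Mathlib.Algebra.Polynomial.Div
import Mathlib.RingTheory.Finiteness.Basic

/-! The canonical ideal on an affine chart of the point blow-up. -/

set_option autoImplicit false
set_option maxSynthPendingDepth 5
set_option linter.style.haveILetI false
set_option backward.isDefEq.respectTransparency false
set_option backward.isDefEq.respectTransparency.types false
set_option maxHeartbeats 800000

universe u

noncomputable section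

namespace Groth.L05.PtChain

open IsLocalRing Groth.L13.BU Polynomial

variable {T : Type u} [CommRing T] [IsLocalRing T]

/-- A canonical ideal `M`, a reduction `x, y` and a socle element `s`. -/
structure SData (M : Ideal T) (x y s : T) : Prop where
  pair : RegPair M x y
  sqle : maximalIdeal T ^ 2 ≤ Ideal.span {x, y} * maximalIdeal T
  hs : s ∈ maximalIdeal T * M
  hsJ : s ∉ Ideal.span {x, y} * M
  hsoc : soc (Ideal.span {x, y}) M ≤ Ideal.span {x, y} * M ⊔ Ideal.span {s}

namespace SData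

variable [IsDomain T] {M : Ideal T} {x y s : T}

theorem mem_one (h : SData M x y s) : x ∈ maximalIdeal T ^ 1 := by rw [pow_one]; exact h.pair.mem₁

theorem s_mem (h : SData M x y s) : s ∈ M := Ideal.mul_le_right h.hs

theorem s_mem_max (h : SData M x y s) : s ∈ maximalIdeal T := Ideal.mul_le_left h.hs

theorem pair_le (h : SData M x y s) : Ideal.span {x, y} ≤ maximalIdeal T :=
  Ideal.span_le.2 (by rintro w (rfl | rfl); exacts [h.pair.mem₁, h.pair.mem₂])

theorem mul_mul_le (h : SData M x y s) :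
    maximalIdeal T * (maximalIdeal T * M) ≤ Ideal.span {x, y} * (maximalIdeal T * M) := by
  rw [← mul_assoc, ← mul_assoc, ← sq]
  exact Ideal.mul_mono_left h.sqle

theorem mul_le_soc' (h : SData M x y s) : maximalIdeal T * M ≤ soc (Ideal.span {x, y}) M := fun _ ht =>
  ⟨Ideal.mul_le_right ht, fun r hr =>
    Ideal.mul_mono_right Ideal.mul_le_right (h.mul_mul_le (Ideal.mul_mem_mul hr ht))⟩

theorem soc_le (h : SData M x y s) : soc (Ideal.span {x, y}) M ≤ maximalIdeal T * M :=
  h.hsoc.trans (sup_le (Ideal.mul_mono_left h.pair_le) ((Ideal.span_singleton_le_iff_mem _).2 h.hs))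

theorem exists_decomp (h : SData M x y s) {t : T} (ht : t ∈ maximalIdeal T * M) :
    ∃ a ∈ M, ∃ b ∈ M, ∃ c, t = x * a + y * b + c * s := by
  obtain ⟨j, hj, v, hv, rfl⟩ := Submodule.mem_sup.1 (h.hsoc (h.mul_le_soc' ht))
  obtain ⟨c, rfl⟩ := Ideal.mem_span_singleton'.1 hv
  obtain ⟨a, ha, b, hb, rfl⟩ := mem_pair_mul.1 hj
  exact ⟨a, ha, b, hb, c, rfl⟩

/-- The chart. -/
abbrev Ch (h : SData M x y s) : Type u := Chart (maximalIdeal T) x h.mem_one

/-- The map to the chart. -/
abbrev ι (h : SData M x y s) : T →+* h.Ch := chartHom (maximalIdeal T) x h.mem_one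

/-- The fraction `e / x`. -/
abbrev dx (h : SData M x y s) {e : T} (he : e ∈ maximalIdeal T) : h.Ch :=
  frac (maximalIdeal T) x h.mem_one 1 e (by rw [pow_one]; exact he)

theorem α_mul_dx (h : SData M x y s) {e : T} (he : e ∈ maximalIdeal T) : h.ι x * h.dx he = h.ι e :=
  (chartHom_eq (maximalIdeal T) x h.mem_one e (by rw [pow_one]; exact he)).symm

theorem isDomain_chart (h : SData M x y s) : IsDomain h.Ch :=
  Groth.L05.RatPow.chart_isDomain (maximalIdeal T) x h.mem_one h.pair.ne₁

theorem α_ne_zero (h : SData M x y s) : h.ι x ≠ 0 :=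
  haveI := h.isDomain_chart
  nonZeroDivisors.ne_zero (chartHom_nonZeroDivisor _ _ h.mem_one)

theorem α_cancel (h : SData M x y s) {v w : h.Ch} (he : h.ι x * v = h.ι x * w) : v = w :=
  haveI := h.isDomain_chart
  mul_left_cancel₀ h.α_ne_zero he

theorem ι_injective (h : SData M x y s) : Function.Injective h.ι := (injective_iff_map_eq_zero _).2 fun r hr => by
  have h1 : frac (maximalIdeal T) x h.mem_one 0 r (by simp) = 0 := (chartHom_apply _ _ _ r).symm.trans hr
  exact (Groth.L05.RatPow.chart_eq_zero_iff (maximalIdeal T) x h.mem_one h.pair.ne₁ _).1 h1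

/-- Evaluation at `y / x`. -/
def ev (h : SData M x y s) : T[X] →+* h.Ch := eval₂RingHom h.ι (h.dx h.pair.mem₂)

theorem ev_C (h : SData M x y s) (r : T) : h.ev (C r) = h.ι r := eval₂_C _ _

theorem ev_X (h : SData M x y s) : h.ev X = h.dx h.pair.mem₂ := eval₂_X _ _

/-- The image of `s / x`. -/
abbrev sx (h : SData M x y s) : h.Ch := h.dx h.s_mem_max

/-- Polynomials with coefficients in an ideal. -/
abbrev polyI (L : Ideal T) : Ideal T[X] := L.map C

/-- `v` is represented by `P` and `σ`. -/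
def Rep (h : SData M x y s) (v : h.Ch) (P σ : T[X]) : Prop := P ∈ polyI M ∧ v = h.ev P + h.ev σ * h.sx

theorem ι_hform (h : SData M x y s) (c : ℕ → T) (n : ℕ) :
    h.ι (hform x y c n) = h.ι x ^ n * ∑ i ∈ Finset.range (n + 1), h.ι (c i) * h.dx h.pair.mem₂ ^ i := by
  induction n with
  | zero => simp [hform]
  | succ n ih =>
    rw [hform, map_add, map_mul, map_mul, map_pow, ih, Finset.sum_range_succ _ (n + 1), mul_add,
      ← h.α_mul_dx h.pair.mem₂, mul_pow]
    ring

theorem ι_hform_poly (h : SData M x y s) (P : T[X]) {n : ℕ} (hn : P.natDegree ≤ n) :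
    h.ι (hform x y P.coeff n) = h.ι x ^ n * h.ev P := by
  rw [h.ι_hform]
  congr 1
  exact (eval₂_eq_sum_range' h.ι (Nat.lt_succ_of_le hn) _).symm

omit [IsLocalRing T] [IsDomain T] in
theorem hform_mul_right (x y : T) (c : ℕ → T) (r : T) (n : ℕ) :
    hform x y c n * r = hform x y (fun i => c i * r) n := by
  induction n with
  | zero => rfl
  | succ n ih => simp only [hform, ← ih]; ring

/-- The main independence lemma. -/
theorem indep (h : SData M x y s) {P σ P' σ' : T[X]} (hP : P ∈ polyI M) (hP' : P' ∈ polyI M)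
    (he : h.ev P + h.ev σ * h.sx = h.ι x * (h.ev P' + h.ev σ' * h.sx)) :
    σ ∈ polyI (maximalIdeal T) ∧ P ∈ polyI (maximalIdeal T * M) := by
  set N := P.natDegree + σ.natDegree + P'.natDegree + σ'.natDegree
  have e1 : x * hform x y P.coeff N + hform x y σ.coeff N * s =
      x * x * hform x y P'.coeff N + x * (hform x y σ'.coeff N * s) := h.ι_injective (by
    simp only [map_add, map_mul]
    rw [h.ι_hform_poly P (by omega), h.ι_hform_poly σ (by omega), h.ι_hform_poly P' (by omega),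
      h.ι_hform_poly σ' (by omega), ← h.α_mul_dx h.s_mem_max]
    have := congrArg (h.ι x ^ (N + 1) * ·) he
    beta_reduce at this
    rw [pow_succ] at this
    linear_combination this)
  set J := Ideal.span {x, y}
  have hxJ : x ∈ J := Ideal.subset_span (by simp)
  have hPm : ∀ Q ∈ polyI M, hform x y Q.coeff N ∈ J ^ N * M := fun Q hQ =>
    hform_mem N fun i _ => Ideal.mem_map_C_iff.1 hQ i
  have hx1 : ∀ {L : Ideal T} {k : ℕ} {t : T}, t ∈ J ^ k * L → x * t ∈ J ^ (k + 1) * L := fun {L k t} ht => by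
    rw [pow_succ', mul_assoc]; exact Ideal.mul_mem_mul hxJ ht
  have hσN : ∀ Q : T[X], hform x y Q.coeff N ∈ J ^ N := fun Q => by
    have h0 := hform_mem (x := x) (y := y) (L := ⊤) (c := Q.coeff) N fun i _ => (trivial : Q.coeff i ∈ (⊤ : Ideal T))
    rwa [Ideal.mul_top] at h0
  have hRHS : x * x * hform x y P'.coeff N + x * (hform x y σ'.coeff N * s) ∈
      J ^ (N + 1) * (maximalIdeal T * M) := by
    refine add_mem ?_ (hx1 (Ideal.mul_mem_mul (hσN σ') h.hs))
    rw [mul_assoc]
    refine Ideal.mul_mono_right (Ideal.mul_mono_left h.pair_le) ?_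
    rw [← mul_assoc (J ^ (N + 1)), ← pow_succ]
    exact hx1 (hx1 (hPm P' hP'))
  have h1 : hform x y σ.coeff N * s ∈ J ^ N * (J * M) := by
    rw [← mul_assoc, ← pow_succ,
      show hform x y σ.coeff N * s = (x * hform x y P.coeff N + hform x y σ.coeff N * s) - x * hform x y P.coeff N by ring]
    exact sub_mem (Ideal.mul_mono_right Ideal.mul_le_right (e1 ▸ hRHS)) (hx1 (hPm P hP))
  rw [hform_mul_right] at h1
  have hσs := h.pair.coeff_mem_of_mem (c := fun i => σ.coeff i * s) (fun i => Ideal.mul_mem_left _ _ h.s_mem)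
    Ideal.mul_le_right le_rfl h1
  have hσ : σ ∈ polyI (maximalIdeal T) := by
    refine Ideal.mem_map_C_iff.2 fun i => ?_
    by_cases hi : i ≤ N
    · by_contra hu
      obtain ⟨u, hu'⟩ : IsUnit (σ.coeff i) := by
        by_contra hu'; exact hu ((IsLocalRing.mem_maximalIdeal _).2 hu')
      have h2 := hσs i hi
      rw [← hu'] at h2
      refine h.hsJ ?_
      rw [show s = ↑u⁻¹ * (↑u * s) by rw [← mul_assoc, Units.inv_mul, one_mul]]
      exact Ideal.mul_mem_left _ _ h2
    · rw [coeff_eq_zero_of_natDegree_lt (by omega)]; exact zero_mem _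
  refine ⟨hσ, Ideal.mem_map_C_iff.2 fun i => ?_⟩
  by_cases hi : i ≤ N + 1
  swap
  · rw [coeff_eq_zero_of_natDegree_lt (by omega)]; exact zero_mem _
  refine h.pair.coeff_mem_of_mem (c := P.coeff) (n := N + 1) (fun i => Ideal.mem_map_C_iff.1 hP i)
    Ideal.mul_le_right (Ideal.mul_mono_left h.pair_le) ?_ i hi
  rw [hform, coeff_eq_zero_of_natDegree_lt (show P.natDegree < N + 1 by omega), zero_mul, add_zero,
    show x * hform x y P.coeff N = (x * hform x y P.coeff N + hform x y σ.coeff N * s) - hform x y σ.coeff N * s by ring]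
  refine sub_mem (e1 ▸ hRHS) ?_
  rw [hform_mul_right, pow_succ, mul_assoc]
  refine hform_mem N fun j _ => h.mul_mul_le (Ideal.mul_mem_mul (Ideal.mem_map_C_iff.1 hσ j) h.hs)

/-! ### The transform -/

/-- The transform of `M`. -/
abbrev MC (h : SData M x y s) : Ideal h.Ch := M.map h.ι

theorem sx_mem (h : SData M x y s) : h.sx ∈ h.MC := by
  have key : ∀ t ∈ maximalIdeal T * M, ∃ w ∈ h.MC, h.ι x * w = h.ι t := by
    intro t ht
    induction ht using Submodule.mul_induction_on' with
    | mem_mul_mem e he m hm =>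
      exact ⟨h.dx he * h.ι m, Ideal.mul_mem_left _ _ (Ideal.mem_map_of_mem _ hm), by
        rw [← mul_assoc, h.α_mul_dx, map_mul]⟩
    | add a _ b _ ha hb =>
      obtain ⟨w, hw, hwe⟩ := ha
      obtain ⟨w', hw', hwe'⟩ := hb
      exact ⟨w + w', add_mem hw hw', by rw [mul_add, hwe, hwe', map_add]⟩
  obtain ⟨w, hw, hwe⟩ := key s h.hs
  have he : w = h.sx := h.α_cancel (hwe.trans (h.α_mul_dx h.s_mem_max).symm)
  exact he ▸ hw

theorem α_mul_mem (h : SData M x y s) {t : T} (ht : t ∈ maximalIdeal T * M) :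
    h.ι t ∈ Ideal.span {h.ι x} * h.MC := by
  induction ht using Submodule.mul_induction_on' with
  | mem_mul_mem e he m hm =>
    refine Ideal.mem_span_singleton_mul.2 ⟨h.dx he * h.ι m, Ideal.mul_mem_left _ _ (Ideal.mem_map_of_mem _ hm), ?_⟩
    rw [← mul_assoc, h.α_mul_dx, map_mul]
  | add a _ b _ ha hb => rw [map_add]; exact add_mem ha hb

theorem rep_add {h : SData M x y s} {v w : h.Ch} {P σ Q τ : T[X]} (hv : h.Rep v P σ) (hw : h.Rep w Q τ) :
    h.Rep (v + w) (P + Q) (σ + τ) :=
  ⟨add_mem hv.1 hw.1, by rw [hv.2, hw.2, map_add, map_add]; ring⟩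

theorem rep_smul {h : SData M x y s} {v : h.Ch} {P σ : T[X]} (f : T[X]) (hv : h.Rep v P σ) :
    h.Rep (h.ev f * v) (f * P) (f * σ) :=
  ⟨Ideal.mul_mem_left _ _ hv.1, by rw [hv.2, map_mul, map_mul]; ring⟩

theorem rep_div (h : SData M x y s) {v : h.Ch} {a b c : T} (ha : a ∈ M) (hb : b ∈ M)
    (hv : h.ι x * v = h.ι (x * a + y * b + c * s)) : h.Rep v (C a + X * C b) (C c) := by
  refine ⟨add_mem (Ideal.mem_map_of_mem _ ha) (Ideal.mul_mem_left _ _ (Ideal.mem_map_of_mem _ hb)), h.α_cancel ?_⟩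
  rw [hv]
  simp only [map_add, map_mul, h.ev_C, h.ev_X, ← h.α_mul_dx h.pair.mem₂, ← h.α_mul_dx h.s_mem_max]
  ring

theorem exists_rep_div (h : SData M x y s) {v : h.Ch} {t : T} (ht : t ∈ maximalIdeal T * M)
    (hv : h.ι x * v = h.ι t) : ∃ P σ, h.Rep v P σ := by
  obtain ⟨a, ha, b, hb, c, rfl⟩ := h.exists_decomp ht
  exact ⟨_, _, h.rep_div ha hb hv⟩

theorem exists_rep (h : SData M x y s) {v : h.Ch} (hv : v ∈ h.MC) : ∃ P σ, h.Rep v P σ := by
  classical
  have hdx : ∀ (e : T) (he : e ∈ maximalIdeal T) (v : h.Ch), (∃ P σ, h.Rep v P σ) →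
      ∃ P σ, h.Rep (h.dx he * v) P σ := by
    rintro e he v ⟨P, σ, hP, rfl⟩
    have hι : ∀ r ∈ M, ∃ P σ, h.Rep (h.dx he * h.ι r) P σ := fun r hr =>
      h.exists_rep_div (Ideal.mul_mem_mul he hr) (by rw [← mul_assoc, h.α_mul_dx, map_mul])
    have hsum : ∃ Q τ, h.Rep (h.dx he * h.ev P) Q τ := by
      have h1 : h.dx he * h.ev P =
          ∑ i ∈ Finset.range (P.natDegree + 1), h.ev (X ^ i) * (h.dx he * h.ι (P.coeff i)) := by
        conv_lhs => rw [P.as_sum_range_C_mul_X_pow]
        rw [map_sum, Finset.mul_sum]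
        exact Finset.sum_congr rfl fun i _ => by rw [map_mul, h.ev_C]; ring
      rw [h1]
      refine Finset.sum_induction _ (fun w => ∃ Q τ, h.Rep w Q τ) ?_ ⟨0, 0, zero_mem _, by simp⟩ fun i _ => ?_
      · rintro a b ⟨Q, τ, hQ⟩ ⟨Q', τ', hQ'⟩; exact ⟨_, _, rep_add hQ hQ'⟩
      · obtain ⟨Q, τ, hQ⟩ := hι _ (Ideal.mem_map_C_iff.1 hP i)
        exact ⟨_, _, rep_smul _ hQ⟩
    obtain ⟨Q, τ, hQ⟩ := hsum
    obtain ⟨a, ha, b, hb, hab⟩ := mem_pair_mul.1 (h.mul_mul_le (Ideal.mul_mem_mul he h.hs))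
    obtain ⟨a₁, ha₁, b₁, hb₁, c₁, rfl⟩ := h.exists_decomp ha
    obtain ⟨a₂, ha₂, b₂, hb₂, c₂, rfl⟩ := h.exists_decomp hb
    have h2 : h.Rep (h.dx he * h.sx) ((C a₁ + X * C b₁) + X * (C a₂ + X * C b₂)) (C c₁ + X * C c₂) := by
      refine ⟨add_mem (add_mem (Ideal.mem_map_of_mem _ ha₁) (Ideal.mul_mem_left _ _ (Ideal.mem_map_of_mem _ hb₁)))
        (Ideal.mul_mem_left _ _ (add_mem (Ideal.mem_map_of_mem _ ha₂)
          (Ideal.mul_mem_left _ _ (Ideal.mem_map_of_mem _ hb₂)))), h.α_cancel (h.α_cancel ?_)⟩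
      rw [show h.ι x * (h.ι x * (h.dx he * h.sx)) = h.ι e * h.ι s by
        rw [← h.α_mul_dx he, ← h.α_mul_dx h.s_mem_max]; ring, ← map_mul, hab]
      simp only [map_add, map_mul, h.ev_C, h.ev_X, ← h.α_mul_dx h.pair.mem₂, ← h.α_mul_dx h.s_mem_max]
      ring
    rw [mul_add, mul_left_comm]
    exact ⟨_, _, rep_add hQ (rep_smul σ h2)⟩
  have hfrac : ∀ (n : ℕ) (c : T) (hc : c ∈ maximalIdeal T ^ n) (v : h.Ch), (∃ P σ, h.Rep v P σ) →
      ∃ P σ, h.Rep (frac (maximalIdeal T) x h.mem_one n c hc * v) P σ := by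
    intro n
    induction n with
    | zero =>
      rintro c hc v ⟨P, σ, hP⟩
      rw [← chartHom_apply (maximalIdeal T) x h.mem_one c]
      have h3 := rep_smul (C c) hP
      rw [h.ev_C] at h3
      exact ⟨_, _, h3⟩
    | succ n ih =>
      intro c hc v hv
      have hc' := hc
      rw [pow_succ'] at hc'
      induction hc' using Submodule.mul_induction_on' with
      | mem_mul_mem e he b hb =>
        have h1 : frac (maximalIdeal T) x h.mem_one (n + 1) (e * b) hc =
            h.dx he * frac (maximalIdeal T) x h.mem_one n b hb := by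
          rw [frac_mul]
          exact frac_eq_frac _ _ _ _ _ (by rw [add_comm 1 n])
        rw [h1, mul_assoc]
        exact hdx e he _ (ih b hb v hv)
      | add a ha b hb iha ihb =>
        have ha' : a ∈ maximalIdeal T ^ (n + 1) := by rw [pow_succ']; exact ha
        have hb' : b ∈ maximalIdeal T ^ (n + 1) := by rw [pow_succ']; exact hb
        have h1 : frac (maximalIdeal T) x h.mem_one (n + 1) (a + b) hc =
            frac (maximalIdeal T) x h.mem_one (n + 1) a ha' + frac (maximalIdeal T) x h.mem_one (n + 1) b hb' := by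
          haveI := h.isDomain_chart
          refine mul_left_cancel₀ (pow_ne_zero (n + 1) h.α_ne_zero) ?_
          rw [mul_add, pow_mul_frac, pow_mul_frac, pow_mul_frac, map_add]
        obtain ⟨P, σ, hP⟩ := iha ha'
        obtain ⟨Q, τ, hQ⟩ := ihb hb'
        rw [h1, add_mul]
        exact ⟨_, _, rep_add hP hQ⟩
  induction hv using Submodule.span_induction with
  | mem w hw =>
    obtain ⟨m, hm, rfl⟩ := hw
    exact ⟨C m, 0, Ideal.mem_map_of_mem _ hm, by rw [h.ev_C, map_zero, zero_mul, add_zero]⟩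
  | zero => exact ⟨0, 0, zero_mem _, by simp⟩
  | add a b _ _ ha hb =>
    obtain ⟨P, σ, hP⟩ := ha
    obtain ⟨Q, τ, hQ⟩ := hb
    exact ⟨_, _, rep_add hP hQ⟩
  | smul c w _ hw =>
    obtain ⟨n, c, hc, rfl⟩ := frac_surjective _ _ h.mem_one c
    exact hfrac n c hc w hw

theorem rep_unique (h : SData M x y s) {v : h.Ch} {P σ Q τ : T[X]} (hP : h.Rep v P σ) (hQ : h.Rep v Q τ) :
    σ - τ ∈ polyI (maximalIdeal T) := by
  refine (h.indep (P := P - Q) (σ := σ - τ) (P' := 0) (σ' := 0) (sub_mem hP.1 hQ.1) (zero_mem _) ?_).1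
  rw [map_sub, map_sub, map_zero, zero_mul, add_zero, mul_zero]
  linear_combination hQ.2 - hP.2

theorem rep_α (h : SData M x y s) {v : h.Ch} (hv : v ∈ Ideal.span {h.ι x} * h.MC) {P σ : T[X]}
    (hP : h.Rep v P σ) : σ ∈ polyI (maximalIdeal T) := by
  obtain ⟨w, hw, rfl⟩ := Ideal.mem_span_singleton_mul.1 hv
  obtain ⟨P', σ', hP'⟩ := h.exists_rep hw
  exact (h.indep hP.1 hP'.1 (by rw [← hP.2, ← hP'.2])).1

theorem ev_polyI_mem (h : SData M x y s) {P : T[X]} (hP : P ∈ polyI M) : h.ev P ∈ h.MC := by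
  have h1 := Ideal.mem_map_of_mem h.ev hP
  rw [Ideal.map_map] at h1
  rwa [show h.ev.comp C = h.ι from RingHom.ext h.ev_C] at h1

theorem ev_polyI_mul_mem (h : SData M x y s) {P : T[X]} (hP : P ∈ polyI (maximalIdeal T * M)) :
    h.ev P ∈ Ideal.span {h.ι x} * h.MC := by
  have h1 := Ideal.mem_map_of_mem h.ev hP
  rw [Ideal.map_map, show h.ev.comp C = h.ι from RingHom.ext h.ev_C] at h1
  exact ((Ideal.map_le_iff_le_comap (K := Ideal.span {h.ι x} * h.MC)).2 fun t ht => h.α_mul_mem ht) h1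

theorem ev_max_mem (h : SData M x y s) {σ : T[X]} (hσ : σ ∈ polyI (maximalIdeal T)) :
    h.ev σ ∈ Ideal.span {h.ι x} := by
  have h1 := Ideal.mem_map_of_mem h.ev hσ
  rw [Ideal.map_map, show h.ev.comp C = h.ι from RingHom.ext h.ev_C] at h1
  refine (Ideal.map_le_iff_le_comap.2 fun e he => ?_) h1
  rw [Ideal.mem_comap, ← h.α_mul_dx he]
  exact Ideal.mul_mem_right _ _ (Ideal.mem_span_singleton_self _)

/-- Nondegeneracy of the pairing. -/
theorem nondeg (h : SData M x y s) (N : Ideal T[X]) (d : ℕ)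
    (hN : ∀ f : T[X], f ∈ N → (∀ i, d ≤ i → f.coeff i = 0) → f ∈ polyI (maximalIdeal T)) {R : T[X]}
    (hR : R ∈ polyI M) (hdeg : ∀ i, d ≤ i → R.coeff i = 0)
    (hker : ∀ e (he : e ∈ maximalIdeal T) P σ, h.Rep (h.dx he * h.ev R) P σ → σ ∈ N) :
    R ∈ polyI (maximalIdeal T * M) := by
  classical
  refine Ideal.mem_map_C_iff.2 fun i => h.soc_le ⟨Ideal.mem_map_C_iff.1 hR i, fun e he => ?_⟩
  choose a ha b hb c hc using fun j => h.exists_decomp (t := e * R.coeff j)
    (Ideal.mul_mem_mul he (Ideal.mem_map_C_iff.1 hR j))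
  have hrep : h.Rep (h.dx he * h.ev R) (∑ j ∈ Finset.range d, X ^ j * (C (a j) + X * C (b j)))
      (∑ j ∈ Finset.range d, C (c j) * X ^ j) := by
    have h1 : h.dx he * h.ev R = ∑ j ∈ Finset.range d, h.ev (X ^ j) * (h.dx he * h.ι (R.coeff j)) := by
      have hR' : R = ∑ j ∈ Finset.range d, C (R.coeff j) * X ^ j := by
        ext k
        rw [finset_sum_coeff]
        simp only [coeff_C_mul_X_pow, Finset.sum_ite_eq, Finset.mem_range]
        split_ifs with hk
        exacts [rfl, hdeg k (by omega)]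
      conv_lhs => rw [hR']
      rw [map_sum, Finset.mul_sum]
      exact Finset.sum_congr rfl fun j _ => by rw [map_mul, h.ev_C]; ring
    rw [h1]
    refine ⟨Ideal.sum_mem _ fun j _ => Ideal.mul_mem_left _ _ (add_mem (Ideal.mem_map_of_mem _ (ha j))
      (Ideal.mul_mem_left _ _ (Ideal.mem_map_of_mem _ (hb j)))), ?_⟩
    rw [map_sum, map_sum, Finset.sum_mul, ← Finset.sum_add_distrib]
    refine Finset.sum_congr rfl fun j _ => ?_
    have h2 := (h.rep_div (v := h.dx he * h.ι (R.coeff j)) (c := c j) (ha j) (hb j)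
      (by rw [← mul_assoc, h.α_mul_dx, ← map_mul, hc j])).2
    rw [h2]
    simp only [map_mul]
    ring
  have h3 := hN _ (hker e he _ _ hrep) fun k hk => by
    rw [finset_sum_coeff]
    simp only [coeff_C_mul_X_pow, Finset.sum_ite_eq, Finset.mem_range, if_neg (not_lt.2 hk)]
  by_cases hi : d ≤ i
  · rw [hdeg i hi, mul_zero]; exact zero_mem _
  have h4 := Ideal.mem_map_C_iff.1 h3 i
  rw [finset_sum_coeff] at h4
  simp only [coeff_C_mul_X_pow, Finset.sum_ite_eq, Finset.mem_range, if_pos (not_le.1 hi)] at h4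
  rw [hc i]
  exact add_mem (mem_pair_mul.2 ⟨a i, ha i, b i, hb i, rfl⟩)
    (Ideal.mul_mono_right Ideal.mul_le_right (h.mul_mul_le (Ideal.mul_mem_mul h4 h.hs)))

/-- The chart is finite over the polynomial ring in `y / x`. -/
theorem finite_ev [IsNoetherianRing T] (h : SData M x y s) : h.ev.Finite := by
  classical
  letI := h.ev.toAlgebra
  obtain ⟨G, hG⟩ := IsNoetherian.noetherian (maximalIdeal T)
  have hGm : ∀ g ∈ G, g ∈ maximalIdeal T := fun g hg => hG ▸ Submodule.subset_span hg
  set N : Submodule T[X] h.Ch :=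
    Submodule.span T[X] (insert (1 : h.Ch) (Set.range fun g : {g // g ∈ G} => h.dx (hGm g.1 g.2)))
  have hsm : ∀ (f : T[X]) (w : h.Ch), h.ev f * w = f • w := fun f w => rfl
  have hdxN : ∀ e (he : e ∈ maximalIdeal T), h.dx he ∈ N := by
    intro e he
    have he' := he
    rw [← hG] at he'
    induction he' using Submodule.span_induction with
    | mem g hg => exact Submodule.subset_span (Set.mem_insert_of_mem _ ⟨⟨g, hg⟩, rfl⟩)
    | zero => rw [show h.dx he = 0 from h.α_cancel (by rw [h.α_mul_dx, map_zero, mul_zero])]; exact zero_mem _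
    | add a b ha hb iha ihb =>
      have ha' : a ∈ maximalIdeal T := hG ▸ ha
      have hb' : b ∈ maximalIdeal T := hG ▸ hb
      rw [show h.dx he = h.dx ha' + h.dx hb' from
        h.α_cancel (by rw [h.α_mul_dx, mul_add, h.α_mul_dx, h.α_mul_dx, map_add])]
      exact add_mem (iha ha') (ihb hb')
    | smul r a ha iha =>
      have ha' : a ∈ maximalIdeal T := hG ▸ ha
      rw [show h.dx he = h.ev (C r) * h.dx ha' from h.α_cancel (by
        rw [h.α_mul_dx, h.ev_C, mul_left_comm, h.α_mul_dx, smul_eq_mul, map_mul]), hsm]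
      exact Submodule.smul_mem _ _ (iha ha')
  have hmul : ∀ e (he : e ∈ maximalIdeal T), ∀ w ∈ N, h.dx he * w ∈ N := by
    intro e he w hw
    induction hw using Submodule.span_induction with
    | mem w hw =>
      rcases hw with rfl | ⟨⟨g, hg⟩, rfl⟩
      · rw [mul_one]; exact hdxN e he
      · obtain ⟨a, ha, b, hb, hab⟩ :=
          mem_pair_mul.1 (h.sqle (by rw [sq]; exact Ideal.mul_mem_mul he (hGm g hg)))
        rw [show h.dx he * h.dx (hGm g hg) = h.dx ha + h.ev X * h.dx hb by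
          refine h.α_cancel (h.α_cancel ?_)
          rw [show h.ι x * (h.ι x * (h.dx he * h.dx (hGm g hg))) = h.ι (e * g) by
            rw [map_mul, ← h.α_mul_dx he, ← h.α_mul_dx (hGm g hg)]; ring, hab, h.ev_X]
          simp only [map_add, map_mul, ← h.α_mul_dx ha, ← h.α_mul_dx hb, ← h.α_mul_dx h.pair.mem₂]
          ring, hsm]
        exact add_mem (hdxN a ha) (Submodule.smul_mem _ _ (hdxN b hb))
    | zero => rw [mul_zero]; exact zero_mem _
    | add a b _ _ ha hb => rw [mul_add]; exact add_mem ha hb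
    | smul r a _ ha => rw [← hsm, mul_left_comm, hsm]; exact Submodule.smul_mem _ _ ha
  have hall : ∀ (n : ℕ) (c : T) (hc : c ∈ maximalIdeal T ^ n), ∀ w ∈ N,
      frac (maximalIdeal T) x h.mem_one n c hc * w ∈ N := by
    intro n
    induction n with
    | zero =>
      intro c hc w hw
      rw [← chartHom_apply (maximalIdeal T) x h.mem_one c, show chartHom (maximalIdeal T) x h.mem_one c = h.ev (C c)
        from (h.ev_C c).symm, hsm]
      exact Submodule.smul_mem _ _ hw
    | succ n ih =>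
      intro c hc w hw
      have hc' := hc
      rw [pow_succ'] at hc'
      induction hc' using Submodule.mul_induction_on' with
      | mem_mul_mem e he b hb =>
        rw [show frac (maximalIdeal T) x h.mem_one (n + 1) (e * b) hc =
            h.dx he * frac (maximalIdeal T) x h.mem_one n b hb by
          rw [frac_mul]; exact frac_eq_frac _ _ _ _ _ (by rw [add_comm 1 n]), mul_assoc]
        exact hmul e he _ (ih b hb w hw)
      | add a ha b hb iha ihb =>
        have ha' : a ∈ maximalIdeal T ^ (n + 1) := by rw [pow_succ']; exact ha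
        have hb' : b ∈ maximalIdeal T ^ (n + 1) := by rw [pow_succ']; exact hb
        rw [show frac (maximalIdeal T) x h.mem_one (n + 1) (a + b) hc =
            frac (maximalIdeal T) x h.mem_one (n + 1) a ha' + frac (maximalIdeal T) x h.mem_one (n + 1) b hb' by
          haveI := h.isDomain_chart
          refine mul_left_cancel₀ (pow_ne_zero (n + 1) h.α_ne_zero) ?_
          rw [mul_add, pow_mul_frac, pow_mul_frac, pow_mul_frac, map_add], add_mul]
        exact add_mem (iha ha') (ihb hb')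
  show Module.Finite T[X] h.Ch
  refine ⟨Submodule.fg_def.2 ⟨insert (1 : h.Ch) (Set.range fun g : {g // g ∈ G} => h.dx (hGm g.1 g.2)), (Set.finite_range _).insert _, eq_top_iff.2 fun w _ => ?_⟩⟩
  obtain ⟨n, c, hc, rfl⟩ := frac_surjective _ _ h.mem_one w
  simpa using hall n c hc 1 (Submodule.subset_span (Set.mem_insert _ _))

end SData

end Groth.L05.PtChain
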